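import Cfsg.Agent.H352.EP.SpLagFix
import Cfsg.Agent.H902.EP.SpThree

/-!
# `Sp_2n(2)`, `p = 3`
-/

set_option autoImplicit false

open scoped ComplexConjugate
open Matrix Module

namespace Cfsg.Agent.H352.EP

open Cfsg Cfsg.Agent.Characters.Core Cfsg.Agent.H892.EP
open Cfsg.Agent.H797.EP (q0 Op rho rho_apply IsBeta QP th0_qf classInner_piL_one tv_smul_of_one)
open Cfsg.Agent.H902.EP (tv)

variable {n : ℕ}

local notation "θ₀" => Cfsg.Agent.H797.EP.th0

theorem ne_zero_of_form {u v : Vv n} (h : form u v = 1) : u ≠ 0 := by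
  rintro rfl
  rw [form_zero_left] at h
  exact zero_ne_one h

/-- the value of `beta` at the product of two transvections -/
theorem beta_mul {β : IrrCharacter (Sp n)} (hβ : IsBeta β) {u v : Vv n} (huv : form u v = 1) :
    4 * ((2 : ℂ) ^ n + 1) * (β : Sp n → ℂ) (tv u * tv v) = ((2 : ℂ) ^ n - 8) * (β : Sp n → ℂ) 1 := by
  have hvu : form v u = 1 := by rw [form_comm]; exact huv
  have hcl := isIrr_isClassFunction β.2
  have hk : ∀ u v : Vv n, form u v = 1 → NoFix (Subgroup.closure {tv u, tv v}) (β : Sp n → ℂ) :=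
    fun u v h => noFix_beta hβ h
  have hS := not_noFix_tv hβ (H797.EP.lagW n)
  have hu := Cfsg.Agent.H902.EP.val_tv hk hS (ne_zero_of_form huv)
  have hv := Cfsg.Agent.H902.EP.val_tv hk hS (ne_zero_of_form hvu)
  have huv1 : form (u + v) v = 1 := by rw [form_add_left, huv, form_self, add_zero]
  have huv' := Cfsg.Agent.H902.EP.val_tv hk hS (ne_zero_of_form huv1)
  have h6 := Cfsg.Agent.H902.EP.coset6 (isIrr_isCharacter β.2) (Cfsg.Agent.H902.EP.tv_mul_self u)
    (Cfsg.Agent.H902.EP.tv_mul_self v) (Cfsg.Agent.H902.EP.tv_braid huv) (hk u v huv) 1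
  rw [one_mul, one_mul, one_mul, one_mul, one_mul, Cfsg.Agent.H902.EP.tv_aba huv] at h6
  have hba : (β : Sp n → ℂ) (tv v * tv u) = (β : Sp n → ℂ) (tv u * tv v) := by
    have h1 := hcl (tv u * tv v) (tv v)
    rw [← h1, mul_assoc, mul_assoc, mul_inv_cancel, mul_one]
  rw [hba] at h6
  linear_combination (2 * ((2 : ℂ) ^ n + 1)) * h6 - hu - hv - huv'

/-- **`p = 3`** -/
theorem evAt_three (hn : 3 ≤ n) : EvAt 3 (Sp n) := by
  classical
  intro M hM
  by_contra hcon
  push Not at hcon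
  have hp3 : Fact (Nat.Prime 3) := ⟨Nat.prime_three⟩
  obtain ⟨β, hβ⟩ := H797.EP.exists_beta (n := n)
  have hn0 : 0 < n := by omega
  set i0 : Fin n := ⟨0, hn0⟩ with hi0
  set i1 : Fin n := ⟨1, by omega⟩ with hi1
  have hne : i0 ≠ i1 := by simp [hi0, hi1]
  set u : Vv n := bv (i0, true) + bv (i0, false) with hu
  set v : Vv n := bv (i0, true) + (bv (i1, true) + bv (i1, false)) with hv
  have huv : form u v = 1 := by
    rw [hu, hv]
    simp only [form_add_left, form_add_right, form_bv]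
    simp [hne]
  have hθu : θ₀ u = 1 := by
    rw [hu]
    simp [H797.EP.th0, bv]
  have hθv : θ₀ v = 1 := by
    rw [hv]
    simp [H797.EP.th0, bv, hne.symm]
  set x : Sp n := tv u * tv v with hx
  have hxq : x • q0 n = q0 n := by
    rw [hx, tv_eq, tv_eq, mul_smul, tv_smul_of_one (q0 n) hθv, tv_smul_of_one (q0 n) hθu]
  have hx3 : ∃ k : ℕ, orderOf x = 3 ^ k := by
    have h1 : x ^ 3 = 1 := by
      have hb := Cfsg.Agent.H902.EP.tv_braid huv
      have ha := Cfsg.Agent.H902.EP.tv_aba huv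
      calc x ^ 3 = (tv u * tv v * tv u) * (tv v * tv u * tv v) := by
            rw [hx, pow_succ, pow_succ, pow_one]
            simp only [mul_assoc]
        _ = (tv u * tv v * tv u) * (tv u * tv v * tv u) := by rw [← hb]
        _ = 1 := by rw [ha, Cfsg.Agent.H902.EP.tv_mul_self]
    have h2 : orderOf x ∣ 3 ^ 1 := by
      rw [pow_one]; exact orderOf_dvd_of_pow_eq_one h1
    obtain ⟨k, -, hk⟩ := (Nat.dvd_prime_pow Nat.prime_three).1 h2
    exact ⟨k, hk⟩
  have hL : ∀ S : Lag n, x • S ≠ S := fun S => Cfsg.Agent.H902.EP.no_lag huv S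
  have hz := Cfsg.Agent.H902.EP.blockPart_vanish hM hx3 hL (Commute.one_right x) (by rw [orderOf_one]; decide)
  rw [mul_one, Cfsg.Agent.H902.EP.blockPart_piL hM (rho hn0) β (rho_ne_one hn0)
    (fun h => hβ.ne_one hn0 (by rw [h]; rfl)) (rho_ne_beta (by omega) hβ) classInner_piL_one
    (fun χ hχ h => odd_cases hn hβ χ h (by
      rw [← Nat.not_even_iff_odd, even_iff_two_dvd]
      exact hcon χ hχ)), classInner_piL_rho hn0, hβ.piL, rho_apply] at hz
  -- the values are real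
  obtain ⟨d, hd0, hd⟩ := isIrr_apply_one β.2
  have hβx := beta_mul hβ huv
  have h2n : (8 : ℝ) ≤ 2 ^ n := by
    have h1 : (2 : ℕ) ^ 3 ≤ 2 ^ n := Nat.pow_le_pow_right (by norm_num) hn
    have h2 : ((2 ^ 3 : ℕ) : ℝ) ≤ ((2 ^ n : ℕ) : ℝ) := by exact_mod_cast h1
    push_cast at h2
    linarith
  obtain ⟨b, hb0, hb⟩ : ∃ b : ℝ, 0 ≤ b ∧ (β : Sp n → ℂ) x = b := by
    refine ⟨((2 : ℝ) ^ n - 8) * d / (4 * ((2 : ℝ) ^ n + 1)), ?_, ?_⟩
    · apply div_nonneg
      · exact mul_nonneg (by linarith) (Nat.cast_nonneg d)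
      · positivity
    · have h3 : (4 * ((2 : ℂ) ^ n + 1)) ≠ 0 := by
        have : (4 * ((2 : ℝ) ^ n + 1)) ≠ 0 := by positivity
        exact_mod_cast this
      rw [hd] at hβx
      push_cast
      rw [eq_div_iff h3, mul_comm]
      exact hβx
  have hOp : (1 : ℝ) ≤ Nat.card (MulAction.fixedBy (QP n) x) := by
    have : Nonempty (MulAction.fixedBy (QP n) x) := ⟨⟨q0 n, hxq⟩⟩
    have h1 : 0 < Nat.card (MulAction.fixedBy (QP n) x) := Nat.card_pos
    exact_mod_cast h1
  rw [hb] at hz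
  unfold Op at hz
  split_ifs at hz with h1 h2 h2
  · have h3 : (1 : ℝ) + 1 * ((Nat.card (MulAction.fixedBy (QP n) x) : ℝ) - 1) + 1 * b = 0 := by exact_mod_cast hz
    linarith
  · have h3 : (1 : ℝ) + 1 * ((Nat.card (MulAction.fixedBy (QP n) x) : ℝ) - 1) + 0 * b = 0 := by exact_mod_cast hz
    linarith
  · have h3 : (1 : ℝ) + 0 * ((Nat.card (MulAction.fixedBy (QP n) x) : ℝ) - 1) + 1 * b = 0 := by exact_mod_cast hz
    linarith
  · have h3 : (1 : ℝ) + 0 * ((Nat.card (MulAction.fixedBy (QP n) x) : ℝ) - 1) + 0 * b = 0 := by exact_mod_cast hz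
    linarith

end Cfsg.Agent.H352.EP
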