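import Mathlib

/-!
# The symplectic group over the field with two elements: Lagrangians and the Siegel parabolic

`Vv n = W × W`, `W = Fin n → ZMod 2`, `form`, the isometry group `Sp n`, the set `Lag n` of maximal
isotropic subspaces, the elements `qel s` (Siegel radical), `lel h` (Levi subgroup), `wel J`.
-/

set_option autoImplicit false

open scoped Pointwise Matrix
open Matrix Module

namespace Cfsg.Agent.H352.EP

/-- the symplectic space -/
abbrev Vv (n : ℕ) : Type := (Fin n → ZMod 2) × (Fin n → ZMod 2)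

variable {n : ℕ}

/-- the alternating form -/
def form (u v : Vv n) : ZMod 2 := u.1 ⬝ᵥ v.2 + u.2 ⬝ᵥ v.1

theorem form_add_left (u u' v : Vv n) : form (u + u') v = form u v + form u' v := by
  simp only [form, Prod.fst_add, Prod.snd_add, add_dotProduct]
  ring

theorem form_add_right (u v v' : Vv n) : form u (v + v') = form u v + form u v' := by
  simp only [form, Prod.fst_add, Prod.snd_add, dotProduct_add]
  ring

theorem form_smul_left (c : ZMod 2) (u v : Vv n) : form (c • u) v = c * form u v := by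
  simp only [form, Prod.smul_fst, Prod.smul_snd, smul_dotProduct, smul_eq_mul]
  ring

theorem form_comm (u v : Vv n) : form u v = form v u := by
  simp only [form]
  rw [dotProduct_comm u.1, dotProduct_comm u.2, add_comm]

theorem form_smul_right (c : ZMod 2) (u v : Vv n) : form u (c • v) = c * form u v := by
  rw [form_comm, form_smul_left, form_comm]

theorem form_self (u : Vv n) : form u u = 0 := by
  simp only [form]
  rw [dotProduct_comm u.2 u.1]
  exact CharTwo.add_self_eq_zero _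

theorem form_zero_left (v : Vv n) : form 0 v = 0 := by
  simp [form]

theorem form_zero_right (v : Vv n) : form v 0 = 0 := by
  simp [form]

/-- the form is non-degenerate -/
theorem eq_zero_of_form (u : Vv n) (h : ∀ v, form u v = 0) : u = 0 := by
  have h1 : u.1 = 0 := by
    funext i
    have := h (0, Pi.single i 1)
    simpa [form] using this
  have h2 : u.2 = 0 := by
    funext i
    have := h (Pi.single i 1, 0)
    simpa [form] using this
  exact Prod.ext h1 h2

/-- the symplectic group -/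
def Sp (n : ℕ) : Subgroup (Vv n ≃ₗ[ZMod 2] Vv n) where
  carrier := {g | ∀ u v, form (g u) (g v) = form u v}
  one_mem' := fun _ _ => rfl
  mul_mem' := by
    intro a b ha hb u v
    change form (a (b u)) (a (b v)) = form u v
    rw [ha, hb]
  inv_mem' := by
    intro a ha u v
    have h := ha (a⁻¹ u) (a⁻¹ v)
    have h1 : ∀ w, a (a⁻¹ w) = w := fun w => LinearEquiv.apply_symm_apply a w
    rw [h1, h1] at h
    exact h.symm

instance : Finite (Vv n ≃ₗ[ZMod 2] Vv n) :=
  Finite.of_injective (fun g => (g : Vv n → Vv n)) DFunLike.coe_injective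

noncomputable instance : Finite (Sp n) := inferInstance

theorem smul_def (g : Sp n) (v : Vv n) : g • v = (g : Vv n ≃ₗ[ZMod 2] Vv n) v := rfl

theorem form_smul (g : Sp n) (u v : Vv n) : form (g • u) (g • v) = form u v := g.2 u v

theorem mk_smul {f : Vv n ≃ₗ[ZMod 2] Vv n} (hf : f ∈ Sp n) (v : Vv n) :
    ((⟨f, hf⟩ : Sp n) • v) = f v := rfl

/-- maximal isotropic subspaces -/
def IsLag (S : Submodule (ZMod 2) (Vv n)) : Prop :=
  (∀ u ∈ S, ∀ v ∈ S, form u v = 0) ∧ finrank (ZMod 2) S = n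

/-- the action on subspaces -/
def act (g : Sp n) (S : Submodule (ZMod 2) (Vv n)) : Submodule (ZMod 2) (Vv n) :=
  S.map ((g : Vv n ≃ₗ[ZMod 2] Vv n) : Vv n →ₗ[ZMod 2] Vv n)

theorem mem_act (g : Sp n) (S : Submodule (ZMod 2) (Vv n)) (v : Vv n) :
    v ∈ act g S ↔ g⁻¹ • v ∈ S := by
  constructor
  · rintro ⟨s, hs, rfl⟩
    have : g⁻¹ • (g • s) = s := inv_smul_smul g s
    change g⁻¹ • (g • s) ∈ S
    rwa [this]
  · intro h
    exact ⟨_, h, smul_inv_smul g v⟩

theorem smul_mem_act (g : Sp n) (S : Submodule (ZMod 2) (Vv n)) (v : Vv n) :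
    g • v ∈ act g S ↔ v ∈ S := by
  rw [mem_act, inv_smul_smul]

theorem act_one (S : Submodule (ZMod 2) (Vv n)) : act (1 : Sp n) S = S := by
  ext v
  rw [mem_act, inv_one, one_smul]

theorem act_mul (g h : Sp n) (S : Submodule (ZMod 2) (Vv n)) : act (g * h) S = act g (act h S) := by
  ext v
  rw [mem_act, mem_act, mem_act, _root_.mul_inv_rev, mul_smul]

theorem act_inf (g : Sp n) (S T : Submodule (ZMod 2) (Vv n)) : act g (S ⊓ T) = act g S ⊓ act g T := by
  ext v
  rw [mem_act, Submodule.mem_inf, Submodule.mem_inf, mem_act, mem_act]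

theorem act_mono (g : Sp n) {S T : Submodule (ZMod 2) (Vv n)} (h : S ≤ T) : act g S ≤ act g T :=
  Submodule.map_mono h

theorem finrank_act (g : Sp n) (S : Submodule (ZMod 2) (Vv n)) :
    finrank (ZMod 2) ↥(act g S) = finrank (ZMod 2) S :=
  LinearEquiv.finrank_map_eq (g : Vv n ≃ₗ[ZMod 2] Vv n) S

theorem IsLag.act {S : Submodule (ZMod 2) (Vv n)} (h : IsLag S) (g : Sp n) :
    IsLag (act g S) := by
  refine ⟨?_, ?_⟩
  · intro u hu v hv
    rw [mem_act] at hu hv
    rw [← form_smul g⁻¹]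
    exact h.1 _ hu _ hv
  · rw [finrank_act]
    exact h.2

/-- the set of maximal isotropic subspaces -/
def Lag (n : ℕ) : Type := {S : Submodule (ZMod 2) (Vv n) // IsLag S}

noncomputable instance : Finite (Submodule (ZMod 2) (Vv n)) := inferInstance

instance : Finite (Lag n) := inferInstanceAs (Finite {S : Submodule (ZMod 2) (Vv n) // IsLag S})

noncomputable instance : Fintype (Lag n) := Fintype.ofFinite _

instance : MulAction (Sp n) (Lag n) where
  smul g S := ⟨Cfsg.Agent.H352.EP.act g S.1, S.2.act g⟩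
  one_smul S := Subtype.ext (act_one S.1)
  mul_smul g h S := Subtype.ext (act_mul g h S.1)

theorem coe_smul (g : Sp n) (S : Lag n) : (g • S).1 = act g S.1 := rfl

theorem Lag.ext {S T : Lag n} (h : S.1 = T.1) : S = T := Subtype.ext h

theorem vadd_self {ι : Type*} (v : ι → ZMod 2) : v + v = 0 := by
  funext i
  exact CharTwo.add_self_eq_zero _

/-! ### Elements -/

/-- the elements of the Siegel radical -/
def qfun (s : Matrix (Fin n) (Fin n) (ZMod 2)) : Vv n ≃ₗ[ZMod 2] Vv n where
  toFun v := (v.1 + s *ᵥ v.2, v.2)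
  invFun v := (v.1 + s *ᵥ v.2, v.2)
  map_add' u v := by
    refine Prod.ext ?_ rfl
    simp only [Prod.fst_add, Prod.snd_add, Matrix.mulVec_add]
    abel
  map_smul' c v := by
    refine Prod.ext ?_ rfl
    simp only [Prod.smul_fst, Prod.smul_snd, Matrix.mulVec_smul, RingHom.id_apply, smul_add]
  left_inv v := by
    refine Prod.ext ?_ rfl
    change v.1 + s *ᵥ v.2 + s *ᵥ v.2 = v.1
    rw [add_assoc, vadd_self, add_zero]
  right_inv v := by
    refine Prod.ext ?_ rfl
    change v.1 + s *ᵥ v.2 + s *ᵥ v.2 = v.1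
    rw [add_assoc, vadd_self, add_zero]

theorem qfun_apply (s : Matrix (Fin n) (Fin n) (ZMod 2)) (v : Vv n) :
    qfun s v = (v.1 + s *ᵥ v.2, v.2) := rfl

/-- symmetric matrices -/
def Sym (n : ℕ) : AddSubgroup (Matrix (Fin n) (Fin n) (ZMod 2)) where
  carrier := {s | sᵀ = s}
  zero_mem' := Matrix.transpose_zero
  add_mem' := by
    intro a b ha hb
    change (a + b)ᵀ = a + b
    rw [Matrix.transpose_add, ha, hb]
  neg_mem' := by
    intro a ha
    change (-a)ᵀ = -a
    rw [Matrix.transpose_neg, ha]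

theorem qfun_mem {s : Matrix (Fin n) (Fin n) (ZMod 2)} (hs : s ∈ Sym n) : qfun s ∈ Sp n := by
  intro u v
  have h1 : (s *ᵥ u.2) ⬝ᵥ v.2 = u.2 ⬝ᵥ (s *ᵥ v.2) := by
    have hs' : sᵀ = s := hs
    conv_lhs => rw [← hs']
    rw [Matrix.mulVec_transpose, ← Matrix.dotProduct_mulVec]
  simp only [qfun_apply, form, add_dotProduct, dotProduct_add, h1]
  have := CharTwo.add_self_eq_zero (u.2 ⬝ᵥ (s *ᵥ v.2))
  linear_combination this

/-- the Siegel radical as a homomorphism from the additive group of symmetric matrices -/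
def qel : Multiplicative (Sym n) →* Sp n where
  toFun s := ⟨qfun (s.toAdd : Matrix (Fin n) (Fin n) (ZMod 2)), qfun_mem s.toAdd.2⟩
  map_one' := by
    refine Subtype.ext (LinearEquiv.ext fun v => ?_)
    change (v.1 + (0 : Matrix (Fin n) (Fin n) (ZMod 2)) *ᵥ v.2, v.2) = v
    rw [Matrix.zero_mulVec, add_zero]
  map_mul' s t := by
    refine Subtype.ext (LinearEquiv.ext fun v => ?_)
    change (v.1 + ((s.toAdd : Matrix (Fin n) (Fin n) (ZMod 2)) + (t.toAdd : Matrix (Fin n) (Fin n) (ZMod 2))) *ᵥ v.2, v.2) =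
      (v.1 + (t.toAdd : Matrix (Fin n) (Fin n) (ZMod 2)) *ᵥ v.2 +
        (s.toAdd : Matrix (Fin n) (Fin n) (ZMod 2)) *ᵥ v.2, v.2)
    rw [Matrix.add_mulVec]
    refine Prod.ext ?_ rfl
    simp only
    abel

theorem qel_smul (s : Multiplicative (Sym n)) (v : Vv n) :
    qel s • v = (v.1 + (s.toAdd : Matrix (Fin n) (Fin n) (ZMod 2)) *ᵥ v.2, v.2) := rfl

/-- the elements of the Levi subgroup -/
def lfun (h : GL (Fin n) (ZMod 2)) : Vv n ≃ₗ[ZMod 2] Vv n where
  toFun v := ((h : Matrix (Fin n) (Fin n) (ZMod 2)) *ᵥ v.1,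
    ((h⁻¹ : GL (Fin n) (ZMod 2)) : Matrix (Fin n) (Fin n) (ZMod 2))ᵀ *ᵥ v.2)
  invFun v := (((h⁻¹ : GL (Fin n) (ZMod 2)) : Matrix (Fin n) (Fin n) (ZMod 2)) *ᵥ v.1,
    (h : Matrix (Fin n) (Fin n) (ZMod 2))ᵀ *ᵥ v.2)
  map_add' u v := by
    simp only [Prod.fst_add, Prod.snd_add, Matrix.mulVec_add, Prod.mk_add_mk]
  map_smul' c v := by
    simp only [Prod.smul_fst, Prod.smul_snd, Matrix.mulVec_smul, RingHom.id_apply, Prod.smul_mk]
  left_inv v := by
    refine Prod.ext ?_ ?_
    · simp only [Matrix.mulVec_mulVec]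
      rw [← Units.val_mul, inv_mul_cancel, Units.val_one, Matrix.one_mulVec]
    · simp only [Matrix.mulVec_mulVec]
      rw [← Matrix.transpose_mul, ← Units.val_mul, inv_mul_cancel, Units.val_one,
        Matrix.transpose_one, Matrix.one_mulVec]
  right_inv v := by
    refine Prod.ext ?_ ?_
    · simp only [Matrix.mulVec_mulVec]
      rw [← Units.val_mul, mul_inv_cancel, Units.val_one, Matrix.one_mulVec]
    · simp only [Matrix.mulVec_mulVec]
      rw [← Matrix.transpose_mul, ← Units.val_mul, mul_inv_cancel, Units.val_one,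
        Matrix.transpose_one, Matrix.one_mulVec]

theorem lfun_apply (h : GL (Fin n) (ZMod 2)) (v : Vv n) :
    lfun h v = ((h : Matrix (Fin n) (Fin n) (ZMod 2)) *ᵥ v.1,
    ((h⁻¹ : GL (Fin n) (ZMod 2)) : Matrix (Fin n) (Fin n) (ZMod 2))ᵀ *ᵥ v.2) := rfl

theorem lfun_mem (h : GL (Fin n) (ZMod 2)) : lfun h ∈ Sp n := by
  intro u v
  have key : ∀ a b : Fin n → ZMod 2, ((h : Matrix (Fin n) (Fin n) (ZMod 2)) *ᵥ a) ⬝ᵥ
      (((h⁻¹ : GL (Fin n) (ZMod 2)) : Matrix (Fin n) (Fin n) (ZMod 2))ᵀ *ᵥ b) = a ⬝ᵥ b := by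
    intro a b
    rw [Matrix.mulVec_transpose, dotProduct_comm, ← Matrix.dotProduct_mulVec, Matrix.mulVec_mulVec,
      ← Units.val_mul, inv_mul_cancel, Units.val_one, Matrix.one_mulVec, dotProduct_comm]
  simp only [lfun_apply, form]
  rw [key, dotProduct_comm (_ᵀ *ᵥ u.2), key, dotProduct_comm v.1]

/-- the Levi subgroup -/
def lel : GL (Fin n) (ZMod 2) →* Sp n where
  toFun h := ⟨lfun h, lfun_mem h⟩
  map_one' := by
    refine Subtype.ext (LinearEquiv.ext fun v => ?_)
    change lfun 1 v = v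
    rw [lfun_apply, inv_one, Units.val_one, Matrix.transpose_one, Matrix.one_mulVec,
      Matrix.one_mulVec]
  map_mul' g h := by
    refine Subtype.ext (LinearEquiv.ext fun v => ?_)
    change lfun (g * h) v = lfun g (lfun h v)
    simp only [lfun_apply, Matrix.mulVec_mulVec, _root_.mul_inv_rev, Units.val_mul, Matrix.transpose_mul]

theorem lel_smul (h : GL (Fin n) (ZMod 2)) (v : Vv n) :
    lel h • v = ((h : Matrix (Fin n) (Fin n) (ZMod 2)) *ᵥ v.1,
    ((h⁻¹ : GL (Fin n) (ZMod 2)) : Matrix (Fin n) (Fin n) (ZMod 2))ᵀ *ᵥ v.2) := rfl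

/-- partial swaps -/
def wfun (J : Finset (Fin n)) : Vv n ≃ₗ[ZMod 2] Vv n where
  toFun v := (fun i => if i ∈ J then v.2 i else v.1 i, fun i => if i ∈ J then v.1 i else v.2 i)
  invFun v := (fun i => if i ∈ J then v.2 i else v.1 i, fun i => if i ∈ J then v.1 i else v.2 i)
  map_add' u v := by
    refine Prod.ext ?_ ?_ <;> funext i <;> by_cases h : i ∈ J <;> simp [h]
  map_smul' c v := by
    refine Prod.ext ?_ ?_ <;> funext i <;> by_cases h : i ∈ J <;> simp [h]
  left_inv v := by
    refine Prod.ext ?_ ?_ <;> funext i <;> by_cases h : i ∈ J <;> simp [h]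
  right_inv v := by
    refine Prod.ext ?_ ?_ <;> funext i <;> by_cases h : i ∈ J <;> simp [h]

theorem wfun_apply (J : Finset (Fin n)) (v : Vv n) :
    wfun J v = (fun i => if i ∈ J then v.2 i else v.1 i, fun i => if i ∈ J then v.1 i else v.2 i) :=
  rfl

theorem form_eq_sum (u v : Vv n) : form u v = ∑ i, (u.1 i * v.2 i + u.2 i * v.1 i) := by
  simp only [form, dotProduct, Finset.sum_add_distrib]

theorem wfun_mem (J : Finset (Fin n)) : wfun J ∈ Sp n := by
  intro u v
  rw [form_eq_sum, form_eq_sum]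
  refine Finset.sum_congr rfl fun i _ => ?_
  by_cases h : i ∈ J
  · simp only [wfun_apply, h, if_true]
    ring
  · simp only [wfun_apply, h, if_false]

def wel (J : Finset (Fin n)) : Sp n := ⟨wfun J, wfun_mem J⟩

theorem wel_smul (J : Finset (Fin n)) (v : Vv n) :
    wel J • v = (fun i => if i ∈ J then v.2 i else v.1 i, fun i => if i ∈ J then v.1 i else v.2 i) :=
  rfl

theorem wel_mul_self (J : Finset (Fin n)) : wel J * wel J = (1 : Sp n) := by
  refine Subtype.ext (LinearEquiv.ext fun v => ?_)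
  exact (wfun J).left_inv v

end Cfsg.Agent.H352.EP
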