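import Cfsg.Agent.H352.EP.SpFin
import Cfsg.Agent.H797.EP.OddX

/-!
# Even degrees in the principal block of `Sp_2n(2)`: the sections of elements of odd type

`evAt_of_sum` : the comparison of the section sums of `piL` and of the constituents of odd degree;
`evAt_of_XD` : the conclusion for the primes `p` dividing the order of an element of odd type.
-/

set_option autoImplicit false

open Matrix Module

namespace Cfsg.Agent.H352.EP

open Cfsg Cfsg.Agent.Characters.Core Cfsg.Agent.H892.EP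
open Cfsg.Agent.H797.EP (Op Psi rho rho_apply IsBeta exists_beta reg t0_sum isCharacter_piL classInner_piL_one XD Yg
  lagW lagC)

variable {n : ℕ}

/-- if all characters in the principal block had odd degree -/
theorem sum_of_odd {p : ℕ} [Fact p.Prime] (hn : 3 ≤ n) {M : Ideal AlgInt} (hM : IsPModular p M)
    (hodd : ∀ χ : IrrCharacter (Sp n), χ ∈ principalBlock M (Sp n) → ¬ 2 ∣ charDegree (χ : Sp n → ℂ))
    {β : IrrCharacter (Sp n)} (hβ : IsBeta β) {x : Sp n} (hx : ∃ k : ℕ, orderOf x = p ^ k) :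
    ∃ m : ℂ, ∑ r ∈ reg p x, piL n (x * r) = ∑ r ∈ reg p x, (1 : ℂ) + m * ∑ r ∈ reg p x, (Op (x * r) - 1) +
      ∑ r ∈ reg p x, (β : Sp n → ℂ) (x * r) := by
  classical
  have hn0 : 0 < n := by omega
  have hβ1 : β ≠ oneChar (Sp n) := fun h => hβ.ne_one hn0 (by rw [h]; rfl)
  have hcases : ∀ χ : IrrCharacter (Sp n), classInner (piL n) (χ : Sp n → ℂ) ≠ 0 → χ ∈ principalBlock M (Sp n) →
      χ = oneChar (Sp n) ∨ χ = rho hn0 ∨ χ = β := by
    intro χ h1 h2
    refine odd_cases hn hβ χ h1 ?_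
    rw [← Nat.not_even_iff_odd, even_iff_two_dvd]
    exact hodd χ h2
  have e1 : classInner (piL n) ((oneChar (Sp n) : IrrCharacter (Sp n)) : Sp n → ℂ) = 1 := classInner_piL_one
  have e2 : ∑ r ∈ reg p x, ((oneChar (Sp n) : IrrCharacter (Sp n)) : Sp n → ℂ) (x * r) = ∑ r ∈ reg p x, (1 : ℂ) := rfl
  by_cases hr : rho hn0 = oneChar (Sp n) ∨ rho hn0 = β
  · refine ⟨0, ?_⟩
    rw [t0_sum hM isCharacter_piL {oneChar (Sp n), β} ?_ hx, Finset.sum_pair hβ1.symm, e1, e2, hβ.piL, zero_mul,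
      add_zero, one_mul, one_mul]
    intro χ h1 h2
    rw [Finset.mem_insert, Finset.mem_singleton]
    rcases hcases χ h1 h2 with h3 | h3 | h3
    · exact Or.inl h3
    · rcases hr with h4 | h4
      · exact Or.inl (h3.trans h4)
      · exact Or.inr (h3.trans h4)
    · exact Or.inr h3
  · push Not at hr
    refine ⟨classInner (piL n) (rho hn0 : Sp n → ℂ), ?_⟩
    rw [t0_sum hM isCharacter_piL {oneChar (Sp n), rho hn0, β} ?_ hx, Finset.sum_insert, Finset.sum_pair hr.2, e1, e2,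
      hβ.piL, one_mul, one_mul, add_assoc]
    · rfl
    · rw [Finset.mem_insert, Finset.mem_singleton]
      push Not
      exact ⟨fun h => hr.1 h.symm, fun h => hβ1 h.symm⟩
    · intro χ h1 h2
      rw [Finset.mem_insert, Finset.mem_insert, Finset.mem_singleton]
      exact hcases χ h1 h2

/-- **the comparison of the section sums** -/
theorem evAt_of_sum {p : ℕ} [Fact p.Prime] (hn : 3 ≤ n) {x : Sp n} (hx : ∃ k : ℕ, orderOf x = p ^ k)
    (H : ∀ β : IrrCharacter (Sp n), IsBeta β → ∀ m : ℂ, ∑ r ∈ reg p x, piL n (x * r) ≠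
      ∑ r ∈ reg p x, (1 : ℂ) + m * ∑ r ∈ reg p x, (Op (x * r) - 1) + ∑ r ∈ reg p x, (β : Sp n → ℂ) (x * r)) :
    EvAt p (Sp n) := by
  intro M hM
  by_contra hcon
  push Not at hcon
  obtain ⟨β, hβ⟩ := exists_beta (n := n)
  obtain ⟨m, hm⟩ := sum_of_odd hn hM hcon hβ hx
  exact H β hβ m hm

/-- **elements of odd type** -/
theorem evAt_of_XD {p : ℕ} [Fact p.Prime] (hn : 3 ≤ n) {x : Sp n} {N N' V2 : Submodule (ZMod 2) (Vv n)}
    (D : XD p x N N' V2) (hpY : ¬ p ∣ Nat.card (Yg V2))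
    (hV2 : V2 = ⊥ → ∃ S : Lag n, x • S = S ∧ S ≠ lagW n ∧ S ≠ lagC n) : EvAt p (Sp n) :=
  evAt_of_sum hn ⟨1, by rw [pow_one]; exact D.ord⟩ fun _ hβ m => D.main hpY hβ hV2 m

end Cfsg.Agent.H352.EP
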