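import Cfsg.Agent.H352.EP.SpRho
import Cfsg.Agent.H352.EP.SpIso
import Cfsg.Agent.H352.EP.SpThree
import Cfsg.Agent.H743.EP.SpX
import Cfsg.Agent.H781.EP.SpCyc
import Cfsg.Agent.H797.EP.OddFin

/-!
# The row `PSp_2m(2)`, `m ≥ 3`, of S4929: the case analysis
-/

set_option autoImplicit false

open Matrix Module

namespace Cfsg.Agent.H352.EP

open Cfsg Cfsg.Agent.Characters.Core Cfsg.Agent.H892.EP
open Cfsg.Agent.H797.EP (QP)

/-- the order of two modulo `p` -/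
theorem exists_ord {p : ℕ} (hp : p.Prime) (hp2 : p ≠ 2) : ∃ d : ℕ, 0 < d ∧ ∀ j, p ∣ 2 ^ j - 1 ↔ d ∣ j := by
  have : Fact p.Prime := ⟨hp⟩
  have h2 : (2 : ZMod p) ≠ 0 := by
    intro h
    have h1 : p ∣ 2 := (ZMod.natCast_eq_zero_iff 2 p).1 (by exact_mod_cast h)
    exact hp2 ((Nat.prime_dvd_prime_iff_eq hp Nat.prime_two).1 h1)
  refine ⟨orderOf (2 : ZMod p), ?_, fun j => ?_⟩
  · rw [orderOf_pos_iff]
    exact Units.isOfFinOrder_val.2 (isOfFinOrder_of_finite (Units.mk0 (2 : ZMod p) h2))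
  · rw [orderOf_dvd_iff_pow_eq_one]
    have h1 : 1 ≤ 2 ^ j := Nat.one_le_two_pow
    rw [← ZMod.natCast_eq_zero_iff, Nat.cast_sub h1, sub_eq_zero]
    push_cast
    exact Iff.rfl

/-- **The case analysis.** -/
theorem row_psp2_of
    (h3 : ∀ n : ℕ, 3 ≤ n → EvAt 3 (Sp n))
    (hC : ∀ (m : ℕ) (F : Type) [Field F] [Fintype F] (p : ℕ) [Fact p.Prime] (d : ℕ), 2 ≤ m → Fintype.card F = 2 →
      p ≠ 2 → (∀ j, p ∣ 2 ^ j - 1 ↔ d ∣ j) → (m < d ∨ (m = d ∧ Odd d)) → p ∣ Nat.card (PSp m F) → EvAt p (PSp m F))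
    (m : ℕ) (hm : 3 ≤ m) (F : Type) [Field F] [Fintype F] (hF : Fintype.card F = 2) : Ev (PSp m F) := by
  intro p hp hp2 hdiv
  have : Fact p.Prime := ⟨hp⟩
  obtain ⟨e0⟩ := nonempty_psp_equiv (m := m) hF (by omega)
  obtain ⟨d, hd0, hd⟩ := exists_ord hp hp2
  by_cases hcyc : m < d ∨ (m = d ∧ Odd d)
  · exact hC m F p d (by omega) hF hp2 hd hcyc hdiv
  · refine EvAt.tr e0 ?_
    push Not at hcyc
    obtain ⟨h1, h2⟩ := hcyc
    rcases Nat.even_or_odd d with he | ho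
    · -- `d` even
      by_cases hp3 : p = 3
      · subst hp3
        exact h3 m hm
      · obtain ⟨e, rfl⟩ := he
        have hd' : ∀ j, p ∣ 2 ^ j - 1 ↔ 2 * e ∣ j := fun j => by rw [two_mul]; exact hd j
        obtain ⟨x, ⟨k, hk⟩, hL, ⟨u, v, hu, hv, huv⟩, θ, hθ⟩ := 
          Cfsg.Agent.H743.EP.SpX.exists_x (n := m) hp2 (e := e) (m := m - e) hd' (by omega) (by omega)
        obtain ⟨j, -, hj⟩ := (Nat.dvd_prime_pow hp).1 (orderOf_dvd_of_pow_eq_one hk)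
        exact evAt_even hm hp2 hp3 ⟨j, hj⟩ hL huv hu hv hθ
    · -- `d` odd
      refine Cfsg.Agent.H797.EP.psp2_odd hp2 hm ho hd ?_
      rcases Nat.lt_or_eq_of_le h1 with h | h
      · exact h
      · exact absurd ho (h2 h.symm)

/-- **The row `PSp_2m(2)`, `m ≥ 3`.** -/
theorem row_psp2 (m : ℕ) (hm : 3 ≤ m) (F : Type) [Field F] [Fintype F] (hF : Fintype.card F = 2) : Ev (PSp m F) := by
  refine row_psp2_of (fun n hn => evAt_three hn) ?_ m hm F hF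
  intro m F _ _ p _ d hm hF hp2 hd h hdiv
  exact Cfsg.Agent.H781.EP.psp2_cyc hm hF hp2 hd h hdiv

end Cfsg.Agent.H352.EP
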