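import Cfsg.Agent.H274.EP.Ineq
import Cfsg.Agent.H892.EP.Basic
import Cfsg.Agent.PermutationGroups.PermChar

/-!
# Constituents of permutation characters and the parity of degrees

* `fd_ne_of_le` : fixed vectors of a subgroup;
* `exists_stab` : a constituent `η` of the restriction to `Y` of a constituent of the permutation character has a
  vector fixed by the stabilizer in `Y` of a point;
* `one_of_odd` : a character of odd degree all of whose nontrivial constituents have even degree contains the trivial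
  character.
-/

set_option autoImplicit false

open scoped ComplexConjugate
open Cfsg Cfsg.Agent.Characters.Core Cfsg.Agent.H274.EP

namespace Cfsg.Agent.H352.EP

universe u

section Gen

variable {Y : Type u} [Group Y] [Finite Y]

/-- the dimensions of fixed vectors as natural numbers -/
theorem fd_sub {B S : Subgroup Y} (h : B ≤ S) (f : Y → ℂ) :
    fd (B.subgroupOf S) (f ∘ S.subtype) = fd B f := by
  have : Fintype B := Fintype.ofFinite _
  have : Fintype (B.subgroupOf S) := Fintype.ofFinite _
  rw [fd_eq, fd_eq, Nat.card_congr (Subgroup.subgroupOfEquivOfLe h).toEquiv]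
  congr 1
  exact Fintype.sum_equiv (Subgroup.subgroupOfEquivOfLe h).toEquiv _ _ fun x => rfl

theorem fd_top_eq [Fintype Y] (f : Y → ℂ) : fd (⊤ : Subgroup Y) f = classInner f 1 := by
  have : Fintype ↥(⊤ : Subgroup Y) := Fintype.ofFinite _
  rw [fd_eq, classInner_def, Subgroup.card_top]
  congr 1
  refine Fintype.sum_equiv Subgroup.topEquiv.toEquiv _ _ fun x => ?_
  simp

theorem fd_one (B : Subgroup Y) : fd B (1 : Y → ℂ) = 1 := by
  have : Fintype B := Fintype.ofFinite _
  rw [fd_eq]
  simp

/-- a fixed vector of the group is a fixed vector of every subgroup -/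
theorem fd_ne_of_top {B : Subgroup Y} {f : Y → ℂ} (hf : IsCharacter Y f) (hS : fd (⊤ : Subgroup Y) f ≠ 0) :
    fd B f ≠ 0 := by
  classical
  have : Fintype Y := Fintype.ofFinite _
  have : Finite (IrrCharacter Y) := finite_irr
  have : Fintype (IrrCharacter Y) := Fintype.ofFinite _
  obtain ⟨m, hm⟩ := exists_nat_comb hf
  let o : IrrCharacter Y := ⟨1, isIrr_one⟩
  have h1 : (m o : ℂ) ≠ 0 := by
    rw [← classInner_sum_nsmul_irr m o, ← hm]
    rw [fd_top_eq] at hS
    exact hS
  choose c hc using fun η : IrrCharacter Y => fd_isNat B (isIrr_isCharacter η.2)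
  have h2 : fd B f = ((∑ η : IrrCharacter Y, m η * c η : ℕ) : ℂ) := by
    have h3 : f = fun u => ∑ η : IrrCharacter Y, (m η : ℂ) * (η : Y → ℂ) u := by
      rw [hm]
      funext u
      simp [Finset.sum_apply]
    rw [h3, fd_sum]
    push_cast
    exact Finset.sum_congr rfl fun η _ => by rw [hc]
  rw [h2, Nat.cast_ne_zero]
  have h4 : c o = 1 := by
    have h5 := hc o
    rw [show (o : Y → ℂ) = 1 from rfl, fd_one] at h5
    exact_mod_cast h5.symm
  intro h5
  have h6 := (Finset.sum_eq_zero_iff.1 h5) o (Finset.mem_univ _)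
  rw [h4, mul_one] at h6
  apply h1
  rw [h6, Nat.cast_zero]

theorem fd_ne_of_le {B S : Subgroup Y} (h : B ≤ S) {f : Y → ℂ} (hf : IsCharacter Y f) (hS : fd S f ≠ 0) :
    fd B f ≠ 0 := by
  rw [← fd_sub h]
  apply fd_ne_of_top (isCharacter_comp S.subtype hf)
  have h1 := fd_sub (le_refl S) f
  rw [Subgroup.subgroupOf_self] at h1
  rwa [h1]

/-- **parity** -/
theorem one_of_odd [Fintype Y] {f : Y → ℂ} (hf : IsCharacter Y f) {d : ℕ} (hd : f 1 = d) (ho : Odd d)
    (hev : ∀ η : IrrCharacter Y, η ≠ H892.EP.oneChar Y → classInner f (η : Y → ℂ) ≠ 0 →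
      2 ∣ charDegree (η : Y → ℂ)) : fd (⊤ : Subgroup Y) f ≠ 0 := by
  classical
  have : Finite (IrrCharacter Y) := finite_irr
  have : Fintype (IrrCharacter Y) := Fintype.ofFinite _
  obtain ⟨m, hm⟩ := exists_nat_comb hf
  intro h0
  rw [fd_top_eq] at h0
  have hmη : ∀ η : IrrCharacter Y, classInner f (η : Y → ℂ) = m η := fun η => by
    rw [← classInner_sum_nsmul_irr m η, ← hm]
  have h1 : (d : ℂ) = ((∑ η : IrrCharacter Y, m η * charDegree (η : Y → ℂ) : ℕ) : ℂ) := by
    rw [← hd, hm, Finset.sum_apply]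
    push_cast
    refine Finset.sum_congr rfl fun η _ => ?_
    rw [Pi.smul_apply, nsmul_eq_mul, Cfsg.Agent.Blocks.Basic.irr_one_eq_charDegree η.2]
  have h2 : d = ∑ η : IrrCharacter Y, m η * charDegree (η : Y → ℂ) := by exact_mod_cast h1
  have h3 : 2 ∣ d := by
    rw [h2]
    refine Finset.dvd_sum fun η _ => ?_
    by_cases h4 : η = H892.EP.oneChar Y
    · have h5 := hmη η
      rw [h4] at h5
      have h6 : classInner f ((H892.EP.oneChar Y : IrrCharacter Y) : Y → ℂ) = 0 := h0
      rw [h6] at h5
      have h7 : m (H892.EP.oneChar Y) = 0 := by exact_mod_cast h5.symm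
      rw [h4, h7, zero_mul]
      exact dvd_zero _
    · by_cases h5 : m η = 0
      · rw [h5, zero_mul]
        exact dvd_zero _
      · apply Dvd.dvd.mul_left
        apply hev η h4
        rw [hmη]
        exact_mod_cast h5
  exact (Nat.not_even_iff_odd.2 ho) (even_iff_two_dvd.2 h3)

end Gen

section Perm

variable {G : Type u} [Group G] [Finite G] {Ω : Type*} [Finite Ω] [MulAction G Ω]

omit [Finite Ω] in
/-- the sum of the fixed points -/
theorem sum_fix (Y : Subgroup G) [Fintype Y] [Fintype Ω] (f : Y → ℂ) :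
    ∑ y : Y, (Nat.card (MulAction.fixedBy Ω (y : G)) : ℂ) * f y =
      ∑ x : Ω, (Nat.card (MulAction.stabilizer Y x) : ℂ) * fd (MulAction.stabilizer Y x) f := by
  classical
  have h1 : ∀ y : Y, (Nat.card (MulAction.fixedBy Ω (y : G)) : ℂ) * f y =
      ∑ x : Ω, if (y : G) • x = x then f y else 0 := by
    intro y
    rw [← Finset.sum_filter, Finset.sum_const, nsmul_eq_mul]
    congr 2
    rw [Nat.card_eq_fintype_card, Fintype.card_subtype]
    rfl
  rw [Finset.sum_congr rfl fun y _ => h1 y, Finset.sum_comm]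
  refine Finset.sum_congr rfl fun x _ => ?_
  have : Fintype (MulAction.stabilizer Y x) := Fintype.ofFinite _
  have hc : (Nat.card (MulAction.stabilizer Y x) : ℂ) ≠ 0 := card_ne_zero_complex
  rw [fd_eq, mul_inv_cancel_left₀ hc, ← Finset.sum_filter]
  symm
  refine Finset.sum_bij (fun z _ => (z : Y)) ?_ ?_ ?_ ?_
  · intro z _
    rw [Finset.mem_filter]
    exact ⟨Finset.mem_univ _, z.2⟩
  · intro a _ b _ h
    exact Subtype.ext h
  · intro y hy
    rw [Finset.mem_filter] at hy
    exact ⟨⟨y, hy.2⟩, Finset.mem_univ _, rfl⟩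
  · intro z _
    rfl

/-- constituents of the restriction of a constituent of a permutation character -/
theorem exists_stab [Fintype G] (Y : Subgroup G) [Fintype Y] {χ : G → ℂ} (hχ : IsIrrCharacter G χ)
    (hπ : classInner (fun g : G => (Nat.card (MulAction.fixedBy Ω g) : ℂ)) χ ≠ 0) {η : Y → ℂ}
    (hη : IsIrrCharacter Y η) (hr : classInner (χ ∘ Y.subtype) η ≠ 0) :
    ∃ x : Ω, fd (MulAction.stabilizer Y x) η ≠ 0 := by
  classical
  have : Fintype Ω := Fintype.ofFinite _
  have : Finite (IrrCharacter G) := finite_irr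
  have : Fintype (IrrCharacter G) := Fintype.ofFinite _
  have hp : IsCharacter G (fun g : G => (Nat.card (MulAction.fixedBy Ω g) : ℂ)) := by
    rw [PermutationGroups.PermChar.permChar_eq]
    exact PermutationGroups.PermChar.isCharacter_of_rep _
  obtain ⟨m, hm⟩ := exists_nat_comb hp
  have hmχ : (m ⟨χ, hχ⟩ : ℂ) ≠ 0 := by
    rw [← classInner_sum_nsmul_irr m ⟨χ, hχ⟩, ← hm]
    exact hπ
  choose c hc using fun θ : IrrCharacter G =>
    classInner_isNat (isCharacter_comp Y.subtype (isIrr_isCharacter θ.2)) (isIrr_isCharacter hη)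
  have h1 : classInner (fun y : Y => (Nat.card (MulAction.fixedBy Ω (y : G)) : ℂ)) η =
      ((∑ θ : IrrCharacter G, m θ * c θ : ℕ) : ℂ) := by
    have h2 : (fun y : Y => (Nat.card (MulAction.fixedBy Ω (y : G)) : ℂ)) =
        ∑ θ : IrrCharacter G, (m θ : ℂ) • ((θ : G → ℂ) ∘ Y.subtype) := by
      funext y
      have h3 := congrFun hm (y : G)
      simp only [Finset.sum_apply, nsmul_eq_mul] at h3
      rw [h3]
      simp [Finset.sum_apply]
    rw [h2, classInner_sum_left]
    push_cast
    exact Finset.sum_congr rfl fun θ _ => by rw [classInner_smul_left, hc]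
  have h2 : classInner (fun y : Y => (Nat.card (MulAction.fixedBy Ω (y : G)) : ℂ)) η ≠ 0 := by
    rw [h1, Nat.cast_ne_zero]
    intro h5
    have h6 := (Finset.sum_eq_zero_iff.1 h5) ⟨χ, hχ⟩ (Finset.mem_univ _)
    rcases mul_eq_zero.1 h6 with h7 | h7
    · exact hmχ (by rw [h7, Nat.cast_zero])
    · apply hr
      have := hc ⟨χ, hχ⟩
      rw [h7, Nat.cast_zero] at this
      exact this
  by_contra hcon
  push Not at hcon
  apply h2
  rw [← classInner_conj_symm η, classInner_def]
  have h3 : ∀ y : Y, η y * conj ((Nat.card (MulAction.fixedBy Ω (y : G)) : ℂ)) =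
      (Nat.card (MulAction.fixedBy Ω (y : G)) : ℂ) * η y := fun y => by
    rw [Complex.conj_natCast, mul_comm]
  rw [Finset.sum_congr rfl fun y _ => h3 y, sum_fix Y η, Finset.sum_eq_zero, mul_zero, map_zero]
  intro x _
  rw [hcon x, mul_zero]

omit [Finite Ω] in
/-- the stabilizers of the points of an orbit -/
theorem fd_stab_smul (Y : Subgroup G) {η : Y → ℂ} (hη : IsClassFunction Y η) (y : Y) (x : Ω) :
    fd (MulAction.stabilizer Y (y • x)) η = fd (MulAction.stabilizer Y x) η := by
  have : Fintype (MulAction.stabilizer Y (y • x)) := Fintype.ofFinite _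
  have : Fintype (MulAction.stabilizer Y x) := Fintype.ofFinite _
  let e : MulAction.stabilizer Y x ≃ MulAction.stabilizer Y (y • x) :=
    { toFun := fun z => ⟨y * z * y⁻¹, by
        rw [MulAction.mem_stabilizer_iff, mul_smul, inv_smul_smul, mul_smul, z.2]⟩
      invFun := fun z => ⟨y⁻¹ * z * y, by
        rw [MulAction.mem_stabilizer_iff, mul_smul, mul_smul, z.2, inv_smul_smul]⟩
      left_inv := fun z => Subtype.ext (by
        show y⁻¹ * (y * z * y⁻¹) * y = z
        group)
      right_inv := fun z => Subtype.ext (by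
        show y * (y⁻¹ * z * y) * y⁻¹ = z
        group) }
  rw [fd_eq, fd_eq, Nat.card_congr e]
  congr 1
  refine (Fintype.sum_equiv e _ _ fun z => ?_).symm
  show η z = η (y * z * y⁻¹)
  rw [hη]

end Perm

end Cfsg.Agent.H352.EP
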