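import Cfsg.Agent.H352.EP.SpOm
import Cfsg.Agent.H352.EP.Par
import Cfsg.Agent.H274.EP.Even
import Cfsg.Agent.KFacts.RgdFiltWitt

/-!
# Parity of the characters of `Om n` with vectors fixed by a large subgroup

`even_Om` : `n ≥ 3`, `S ≤ Om n` containing the root elements `rel (k, true) (m, s)`, `k < m`: a nontrivial irreducible
character of `Om n` with an `S`-fixed vector has even degree.
-/

set_option autoImplicit false

open Matrix Module QuadraticMap

namespace Cfsg.Agent.H352.EP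

open Cfsg
open CoxeterSystem Cfsg.Agent.ChevalleyStructure.CoxeterGeom Cfsg.Agent.Tits.Roots Cfsg.Agent.Tits.Core
open Cfsg.Agent.Nodes.Comb Cfsg.Agent.Nodes.Reps Cfsg.Agent.Nodes.WittRoot Cfsg.Agent.Nodes.BNOf
open Cfsg.Agent.Nodes Cfsg.Agent.Nodes.RGDLib Cfsg.Agent.Nodes.WittAll Cfsg.Agent.Nodes.WittInst
open Cfsg.Agent.Nodes.TypeC (wt)
open Cfsg.Agent.Nodes.WittRGD (Tor mem_Tor)
open Cfsg.Agent.TitsThree.Siegel Cfsg.Agent.TitsThree.SiegelGen Cfsg.Agent.TitsThree.WittFrame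
  Cfsg.Agent.TitsThree.WBridge Cfsg.Agent.TitsThree.WittWeyl Cfsg.Agent.TitsThree.KSideO
open Cfsg.Agent.Omega.EH3.Kf Cfsg.Agent.Omega.EH3.Kf.Lev
open Cfsg.Agent.LieClassical.OrthCore Cfsg.Agent.LieClassical.OrthForms
open Cfsg.Agent.Characters.Core Cfsg.Agent.H892.EP Cfsg.Agent.H274.EP

variable (k : ℕ)

theorem rgd_Om : RGD (TypeD.M k).toCoxeterSystem (TypeD.isCartan k) 2
    (((Tor (toFrame (wplus (k + 2) (ZMod 2))) (E (plusForm (k + 2) (ZMod 2)))).subgroupOf
      (E (plusForm (k + 2) (ZMod 2)))).map (fw (k + 2)))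
    (fun i => fw (k + 2) ⟨WittRGDD.nn (toFrame (wplus (k + 2) (ZMod 2))) i, WittRGDD.nn_mem (amb_plus (k + 2)) i⟩)
    (XD (wplus (k + 2) (ZMod 2)) (fw (k + 2))) := by
  have : Fact (Nat.Prime 2) := ⟨Nat.prime_two⟩
  exact rgd_map_of_injective (rgd_restrict (rgdD (amb_plus (k + 2)) (adm_plus (k + 2))
    (TypeD.M k).toCoxeterSystem) (E (plusForm (k + 2) (ZMod 2)))
    (fun x _ => rgD_le (wplus (k + 2) (ZMod 2)) (amb_plus (k + 2)) x)
    (fun i => WittRGDD.nn_mem (amb_plus (k + 2)) i)) (fw (k + 2)) fw_injective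

theorem G1_Om : G1 (TypeD.M k).toCoxeterSystem (TypeD.isCartan k) (XD (wplus (k + 2) (ZMod 2)) (fw (k + 2))) = ⊤ :=
  G1D_eq_top (wplus (k + 2) (ZMod 2)) (fw (k + 2)) fw_surjective (adm_plus _) _

theorem commGen_Om : CommGen (TypeD.M k).toCoxeterSystem (TypeD.isCartan k)
    (XD (wplus (k + 2) (ZMod 2)) (fw (k + 2))) := by
  have : Finite (TypeD.M k).Group := TypeD.finite_W (TypeD.M k).toCoxeterSystem
  have hc : ∀ i j : Fin (k + 2), TypeD.M k i j ≤ 3 := by
    intro i j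
    show (if i = j then 1 else if TypeD.Adj i j ∨ TypeD.Adj j i then 3 else 2) ≤ 3
    split_ifs <;> norm_num
  exact comm_of_sl (rgd_Om k) (Cfsg.Agent.KFacts.RgdFiltWitt.sl_of_ne (fun i j h => by have := hc i j; omega)
    (fun i j h => by have := hc i j; omega))

theorem tor_eq_one {n : ℕ} {g : (Fin n ⊕ Fin n → ZMod 2) ≃ₗ[ZMod 2] (Fin n ⊕ Fin n → ZMod 2)}
    (hg : g ∈ Tor (toFrame (wplus n (ZMod 2))) (E (plusForm n (ZMod 2)))) : g = 1 := by
  have h1 : ∀ x, g ((toFrame (wplus n (ZMod 2))).b x) = (toFrame (wplus n (ZMod 2))).b x := by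
    intro x
    obtain ⟨l, hl, e⟩ := hg.2 x
    have h2 : ∀ a : ZMod 2, a ≠ 0 → a = 1 := by decide
    rw [h2 l hl, one_smul] at e
    exact e
  ext1 v
  obtain ⟨x, y, w, hw, e⟩ := (wplus n (ZMod 2)).span v
  have hw0 : w = 0 := (Submodule.mem_bot _).1 hw
  show g v = v
  rw [e, hw0, map_add, map_add, map_sum, map_sum, map_zero]
  congr 2
  · exact Finset.sum_congr rfl fun i _ => by rw [map_smul]; congr 1; exact h1 (i, true)
  · exact Finset.sum_congr rfl fun i _ => by rw [map_smul]; congr 1; exact h1 (i, false)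

/-- the positive roots of type `D` -/
theorem pos_root {x : Fin (k + 2) → ℤ}
    (hx : x ∈ RGD.Pos (TypeD.M k).toCoxeterSystem (TypeD.isCartan k)) :
    ∃ i j : Fin (k + 2), i < j ∧ ∃ s : Bool, TypeD.ee x = wt (i, true) + wt (j, s) := by
  obtain ⟨h1, h2⟩ := hx
  obtain ⟨a, b, hab, e⟩ := TypeD.exists_of_isRoot _ h1
  have key : ∀ m : Fin (k + 2), 0 ≤ ∑ l ∈ Finset.Iic m, TypeD.ee x l := by
    intro m
    have h3 : ∀ l, TypeD.ee x l = ∑ j, x j * TypeD.bt j l := by
      intro l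
      simp [TypeD.ee, Finset.sum_apply]
    simp only [h3]
    rw [Finset.sum_comm]
    simp only [← Finset.mul_sum, TypeD.sum_bt]
    refine Finset.sum_nonneg fun i _ => mul_nonneg (h2 i) ?_
    split_ifs <;> norm_num
  have key2 : ∀ a b : Fin (k + 2) × Bool, TypeD.ee x = wt a + wt b → a.1 < b.1 → a.2 = true := by
    rintro ⟨i, s⟩ ⟨j, t⟩ e hij
    have h3 := key i
    cases s
    · exfalso
      rw [e] at h3
      simp only [Pi.add_apply, Finset.sum_add_distrib] at h3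
      have e1 : ∑ l ∈ Finset.Iic i, wt ((i, false) : Fin (k + 2) × Bool) l = -1 := by
        rw [Finset.sum_eq_single i]
        · simp [TypeC.wt_apply]
        · intro l _ hl
          simp [TypeC.wt_apply, hl]
        · simp
      have e2 : ∑ l ∈ Finset.Iic i, wt ((j, t) : Fin (k + 2) × Bool) l = 0 := by
        apply Finset.sum_eq_zero
        intro l hl
        rw [Finset.mem_Iic] at hl
        have : l ≠ j := by
          rintro rfl
          exact absurd hij (not_lt.2 hl)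
        simp [TypeC.wt_apply, this]
      rw [e1, e2] at h3
      omega
    · rfl
  rcases lt_or_gt_of_ne hab with h3 | h3
  · have h4 := key2 a b e h3
    exact ⟨a.1, b.1, h3, b.2, by rw [e, ← h4]⟩
  · have e' : TypeD.ee x = wt b + wt a := by rw [e]; exact add_comm (wt a) (wt b)
    have h4 := key2 b a e' h3
    exact ⟨b.1, a.1, h3, a.2, by rw [e', ← h4]⟩

/-- the Borel subgroup lies in every subgroup which contains the positive root elements -/
theorem B_le {S : Subgroup (Om (k + 2))} (hS : ∀ i j : Fin (k + 2), i < j → ∀ s, rel (i, true) (j, s) ∈ S) :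
    RGD.B (TypeD.M k).toCoxeterSystem (TypeD.isCartan k)
      (((Tor (toFrame (wplus (k + 2) (ZMod 2))) (E (plusForm (k + 2) (ZMod 2)))).subgroupOf
      (E (plusForm (k + 2) (ZMod 2)))).map (fw (k + 2))) (XD (wplus (k + 2) (ZMod 2)) (fw (k + 2))) ≤ S := by
  refine sup_le ?_ ?_
  · rintro _ ⟨g, hg, rfl⟩
    have h1 : g = 1 := Subtype.ext (tor_eq_one (Subgroup.mem_subgroupOf.1 hg))
    rw [h1, map_one]
    exact one_mem _
  · refine iSup_le ?_
    rintro ⟨x, hx⟩
    obtain ⟨i, j, hij, s, e⟩ := pos_root k hx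
    rintro _ ⟨g, hg, rfl⟩
    have h1 := Subgroup.mem_subgroupOf.1 hg
    rw [WittRGDD.rg_eq (toFrame (wplus (k + 2) (ZMod 2))) (a := (i, true)) (b := (j, s)) hij.ne e] at h1
    obtain ⟨t, ht⟩ := h1
    have h2 : ∀ t : ZMod 2, t = 0 ∨ t = 1 := by decide
    rcases h2 t with rfl | rfl
    · have h3 : g = 1 := Subtype.ext (ht.trans (Frame.X_zero _ _ _))
      rw [h3, map_one]
      exact one_mem _
    · have h3 : g = ⟨(toFrame (wplus (k + 2) (ZMod 2))).X (i, true) (j, s) 1, X_mem _ _ _ _⟩ := Subtype.ext ht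
      rw [h3]
      exact hS i j hij s

/-- **parity for `Om n`** -/
theorem even_Om {n : ℕ} (hn : 3 ≤ n) {S : Subgroup (Om n)} (hS : ∀ i j : Fin n, i < j → ∀ s, rel (i, true) (j, s) ∈ S)
    (χ : IrrCharacter (Om n)) (hχ : χ ≠ oneChar (Om n)) (hf : fd S (χ : Om n → ℂ) ≠ 0) :
    2 ∣ charDegree (χ : Om n → ℂ) := by
  obtain ⟨k, rfl⟩ : ∃ k, n = k + 2 := ⟨n - 2, by omega⟩
  have : Finite (TypeD.M k).Group := TypeD.finite_W (TypeD.M k).toCoxeterSystem
  refine even_par (rgd_Om k) (G1_Om k) (commGen_Om k) χ hχ ?_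
  have h1 := fd_ne_of_le (B_le k hS) (isIrr_isCharacter χ.2) hf
  intro h0
  apply h1
  rw [fd, h0, mul_zero]

end Cfsg.Agent.H352.EP
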