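import Cfsg.Agent.H352.EP.SpOdd
import Cfsg.Agent.H797.EP.Beta

/-!
# The orbits of `Ω⁺(θ₀)` on the maximal isotropic subspaces; the constituents of odd degree of `piL`

* `lag_trans_th` : the isometry group of `θ₀` is transitive on the singular and on the non-singular Lagrangians;
* `odd_constituent` : an irreducible constituent of odd degree of `piL n`, `n ≥ 3`, is a constituent of `Op` or `Psi`;
* `odd_cases` : it is `1`, `rho` or `beta`.
-/

set_option autoImplicit false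

open Matrix Module

namespace Cfsg.Agent.H352.EP

open Cfsg Cfsg.Agent.Characters.Core
open Cfsg.Agent.H797.EP (q0 dk dk_sq dk_tv dk_mul' Op Psi tv tv_smul tv_smul_of_one th0_qf ne_zero_of_one lagW mem_lagW
  lag_mem_iff z2 z2add vadd)

variable {n : ℕ}

local notation "θ₀" => Cfsg.Agent.H797.EP.th0

theorem th_St {g : Sp n} (hg : g ∈ St n) (v : Vv n) : θ₀ (g • v) = θ₀ v :=
  H797.EP.sm_eq_iff.1 (congrArg Subtype.val hg) v

/-- **Witt's lemma** for the Lagrangians -/
theorem lag_trans_th (k : ℕ) : ∀ S S' : Lag n, n - finrank (ZMod 2) ↥(S.1 ⊓ S'.1) = k →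
    ((∀ v ∈ S.1, θ₀ v = 0) ↔ (∀ v ∈ S'.1, θ₀ v = 0)) → ∃ g ∈ St n, g • S = S' := by
  induction k using Nat.strong_induction_on with
  | _ k ih =>
  intro S S' h hty
  have hSn : finrank (ZMod 2) S.1 = n := S.2.2
  have hSn' : finrank (ZMod 2) S'.1 = n := S'.2.2
  by_cases hle : S.1 ≤ S'.1
  · refine ⟨1, one_mem _, ?_⟩
    rw [one_smul]
    exact Lag.ext (Submodule.eq_of_le_of_finrank_eq hle (hSn.trans hSn'.symm))
  -- the vectors
  obtain ⟨v, u, hv, hu, huv1, hθ⟩ : ∃ v u : Vv n, v ∈ S.1 ∧ u ∈ S'.1 ∧ form u v = 1 ∧ θ₀ u = θ₀ v := by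
    obtain ⟨v0, hv0, hv0'⟩ := SetLike.not_le_iff_exists.1 hle
    by_cases hs : ∀ v ∈ S.1, θ₀ v = 0
    · rw [lag_mem_iff] at hv0'
      push Not at hv0'
      obtain ⟨u, hu, huv⟩ := hv0'
      exact ⟨v0, u, hv0, hu, (z2 _).resolve_left huv, by rw [hs v0 hv0, hty.1 hs u hu]⟩
    · have hs' : ¬ ∀ v ∈ S'.1, θ₀ v = 0 := fun h1 => hs (hty.2 h1)
      push Not at hs hs'
      obtain ⟨a, ha, ha1⟩ := hs
      obtain ⟨b, hb, hb1⟩ := hs'
      have ha1 := (z2 _).resolve_left ha1
      have hb1 := (z2 _).resolve_left hb1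
      obtain ⟨v, hv, hv', hv1⟩ : ∃ v ∈ S.1, v ∉ S'.1 ∧ θ₀ v = 1 := by
        rcases z2 (θ₀ v0) with h1 | h1
        · by_cases haS : a ∈ S'.1
          · refine ⟨v0 + a, S.1.add_mem hv0 ha, fun h2 => hv0' ?_, ?_⟩
            · have h3 := S'.1.add_mem h2 haS
              rwa [add_assoc, vadd, add_zero] at h3
            · rw [th0_qf, h1, ha1, S.2.1 _ hv0 _ ha, zero_add, add_zero]
          · exact ⟨a, ha, haS, ha1⟩
        · exact ⟨v0, hv0, hv0', h1⟩
      rw [lag_mem_iff] at hv'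
      push Not at hv'
      obtain ⟨u0, hu0, huv⟩ := hv'
      have huv := (z2 _).resolve_left huv
      rcases z2 (θ₀ u0) with h1 | h1
      · rcases z2 (form b v) with h2 | h2
        · exact ⟨v, u0 + b, hv, S'.1.add_mem hu0 hb, by rw [form_add_left, huv, h2, add_zero], by
            rw [th0_qf, h1, hb1, S'.2.1 _ hu0 _ hb, zero_add, add_zero, hv1]⟩
        · exact ⟨v, b, hv, hb, h2, by rw [hb1, hv1]⟩
      · exact ⟨v, u0, hv, hu0, huv, by rw [h1, hv1]⟩
  have ht1 : θ₀ (u + v) = 1 := by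
    rw [th0_qf, hθ, z2add, zero_add, huv1]
  have htSt : tv (u + v) ∈ St n := tv_smul_of_one (q0 n) ht1
  -- the transvection `t` with `t v = u`
  have htv : tv (u + v) • v = u := by
    rw [tv_smul, form_add_right, form_comm v u, huv1, form_self, add_zero, one_smul, add_comm u v,
      ← add_assoc, vadd, zero_add]
  have hfix : ∀ s ∈ S.1 ⊓ S'.1, tv (u + v) • s = s := by
    intro s hs
    rw [tv_smul, form_add_right, S.2.1 s hs.1 v hv, S'.2.1 s hs.2 u hu, add_zero, zero_smul, add_zero]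
  have huS : u ∉ S.1 := fun h1 => by
    rw [S.2.1 u h1 v hv] at huv1
    exact zero_ne_one huv1
  -- the intersection grows
  have hlt : S.1 ⊓ S'.1 < (tv (u + v) • S).1 ⊓ S'.1 := by
    refine lt_of_le_of_ne ?_ ?_
    · intro s hs
      refine ⟨?_, hs.2⟩
      rw [← hfix s hs]
      exact (smul_mem_act _ _ _).2 hs.1
    · intro he
      apply huS
      have h1 : u ∈ (tv (u + v) • S).1 ⊓ S'.1 := by
        refine ⟨?_, hu⟩
        have h2 : tv (u + v) • v ∈ (tv (u + v) • S).1 := (smul_mem_act _ _ _).2 hv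
        rw [htv] at h2
        exact h2
      rw [← he] at h1
      exact h1.1
  have hlt' := Submodule.finrank_lt_finrank_of_lt hlt
  have hle' : finrank (ZMod 2) ↥((tv (u + v) • S).1 ⊓ S'.1) ≤ n := by
    have := Submodule.finrank_mono (inf_le_right : (tv (u + v) • S).1 ⊓ S'.1 ≤ S'.1)
    omega
  have hty' : (∀ v' ∈ (tv (u + v) • S).1, θ₀ v' = 0) ↔ (∀ v ∈ S'.1, θ₀ v = 0) := by
    rw [← hty]
    constructor
    · intro h1 s hs
      rw [← th_St htSt]
      exact h1 _ ((smul_mem_act _ _ _).2 hs)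
    · intro h1 s hs
      have h2 : (tv (u + v))⁻¹ • s ∈ S.1 := (mem_act _ _ _).1 hs
      rw [← th_St ((St n).inv_mem htSt)]
      exact h1 _ h2
  obtain ⟨g, hg, hgS⟩ := ih (n - finrank (ZMod 2) ↥((tv (u + v) • S).1 ⊓ S'.1)) (by omega) (tv (u + v) • S) S' rfl hty'
  exact ⟨g * tv (u + v), (St n).mul_mem hg htSt, by rw [mul_smul]; exact hgS⟩

theorem form_bv (i j : Fin n) (s t : Bool) :
    form (bv (i, s)) (bv (j, t)) = if i = j ∧ s ≠ t then 1 else 0 := by
  cases s <;> cases t <;> by_cases h : i = j <;> simp [form, bv, h, eq_comm]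

/-- the orbits of `Om n` -/
theorem Om_orbit (hn : 3 ≤ n) (x : Lag n) :
    ∃ y : Om n, ∀ i : Fin n, i ≠ ⟨n - 1, by omega⟩ → bv (i, true) ∈ (y • x).1 := by
  set l : Fin n := ⟨n - 1, by omega⟩ with hl
  have hr1 : θ₀ (bv (l, true) + bv (l, false) : Vv n) = 1 := by
    simp [H797.EP.th0, bv]
  have hne := ne_zero_of_one (n := n) th0_qf hr1
  set r : Sp n := tv (bv (l, true) + bv (l, false)) with hr
  have hrSt : r ∈ St n := tv_smul_of_one (q0 n) hr1
  have hrfix : ∀ i : Fin n, i ≠ l → r • bv (i, true) = bv (i, true) := by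
    intro i hi
    rw [hr, tv_smul, form_add_right, form_bv, form_bv]
    simp [hi]
  -- an element of the isometry group
  obtain ⟨g, hg, hgx⟩ : ∃ g ∈ St n, ∀ i : Fin n, i ≠ l → bv (i, true) ∈ (g • x).1 := by
    have hW : ∀ i : Fin n, bv (i, true) ∈ (lagW n).1 := fun i => by
      rw [mem_lagW]
      simp [bv]
    by_cases hs : ∀ v ∈ x.1, θ₀ v = 0
    · obtain ⟨g, hg, hgx⟩ := lag_trans_th _ x (lagW n) rfl ⟨fun _ => H797.EP.th0_lagW, fun _ => hs⟩
      exact ⟨g, hg, fun i _ => by rw [hgx]; exact hW i⟩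
    · set F : Lag n := tv (bv (l, true)) • r • lagW n with hF
      have h1 : bv (l, false) ∈ (r • lagW n).1 := by
        have h2 : r • bv (l, true) ∈ (r • lagW n).1 := (smul_mem_act _ _ _).2 (hW l)
        have h3 : r • bv (l, true) = bv (l, false) := by
          rw [hr, tv_smul, form_add_right, form_bv, form_bv]
          simp only [ne_eq, not_true_eq_false, and_false, if_false, true_and, Bool.true_eq_false, not_false_eq_true,
            if_true, zero_add, one_smul]
          rw [← add_assoc, vadd, zero_add]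
        rwa [h3] at h2
      have h2 : bv (l, false) + bv (l, true) ∈ F.1 := by
        have h3 : tv (bv (l, true)) • bv (l, false) ∈ F.1 := (smul_mem_act _ _ _).2 h1
        have h4 : tv (bv (l, true)) • bv (l, false) = bv (l, false) + bv (l, true) := by
          rw [tv_smul, form_bv]
          simp
        rwa [h4] at h3
      have hF1 : ¬ ∀ v ∈ F.1, θ₀ v = 0 := by
        intro h3
        have h4 := h3 _ h2
        rw [add_comm, hr1] at h4
        exact one_ne_zero h4
      obtain ⟨g, hg, hgx⟩ := lag_trans_th _ x F rfl ⟨fun h => absurd h hs, fun h => absurd h hF1⟩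
      refine ⟨g, hg, fun i hi => ?_⟩
      rw [hgx, hF]
      have h3 : tv (bv (l, true)) • bv (i, true) = bv (i, true) := by
        rw [tv_smul, form_bv]
        simp
      have h4 : r • bv (i, true) ∈ (r • lagW n).1 := (smul_mem_act _ _ _).2 (hW i)
      rw [hrfix i hi] at h4
      rw [← h3]
      exact (smul_mem_act _ _ _).2 h4
  rcases dk_sq g with h1 | h1
  · exact ⟨⟨g, (mem_Om_iff hn).2 ⟨hg, h1⟩⟩, hgx⟩
  · refine ⟨⟨r * g, (mem_Om_iff hn).2 ⟨(St n).mul_mem hrSt hg, ?_⟩⟩, fun i hi => ?_⟩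
    · rw [dk_mul' (q0 n) hrSt hg, h1, hr, dk_tv hne]
      norm_num
    · have h2 : r • bv (i, true) ∈ (r • g • x).1 := (smul_mem_act _ _ _).2 (hgx i hi)
      rw [hrfix i hi] at h2
      have h3 : (r * g) • x = r • g • x := mul_smul r g x
      show bv (i, true) ∈ ((r * g) • x).1
      rw [h3]
      exact h2

theorem rel_fix {S : Lag n} {l : Fin n} (hl : ∀ j : Fin n, j ≤ l) (hS : ∀ i : Fin n, i ≠ l → bv (i, true) ∈ S.1)
    {i j : Fin n} (hij : i < j) (s : Bool) : rel (i, true) (j, s) • S = S := by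
  have hi : i ≠ l := (lt_of_lt_of_le hij (hl j)).ne
  have h1 : ∀ v ∈ S.1, ((rel (i, true) (j, s) : Om n) : Sp n) • v ∈ S.1 := by
    intro v hv
    rw [rel_smul (a := (i, true)) (b := (j, s)) hij.ne, S.2.1 v hv _ (hS i hi), zero_smul, add_zero]
    exact S.1.add_mem hv (S.1.smul_mem _ (hS i hi))
  apply Lag.ext
  have h2 : (rel (i, true) (j, s) • S).1 ≤ S.1 := by
    intro v hv
    have h3 : ((rel (i, true) (j, s) : Om n) : Sp n)⁻¹ • v ∈ S.1 := (mem_act _ _ _).1 hv
    have h4 := h1 _ h3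
    rwa [smul_inv_smul] at h4
  exact Submodule.eq_of_le_of_finrank_eq h2 ((rel (i, true) (j, s) • S).2.2.trans S.2.2.symm)

/-- **The constituents of odd degree of the permutation character on the maximal isotropic subspaces.** -/
theorem odd_constituent (hn : 3 ≤ n) (χ : IrrCharacter (Sp n)) (hπ : classInner (piL n) (χ : Sp n → ℂ) ≠ 0)
    (ho : Odd (charDegree (χ : Sp n → ℂ))) :
    classInner (Op (n := n)) (χ : Sp n → ℂ) ≠ 0 ∨ classInner (Psi (n := n)) (χ : Sp n → ℂ) ≠ 0 := by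
  refine odd_constituent_aux hn (fun x => ?_) χ hπ ho
  obtain ⟨y, hy⟩ := Om_orbit hn x
  exact ⟨y, fun i j hij s => rel_fix (fun j => Fin.le_def.2 (by have := j.2; show (j : ℕ) ≤ n - 1; omega)) hy hij s⟩

/-- the constituents of `Op` -/
theorem op_cases (hn : 0 < n) (χ : IrrCharacter (Sp n)) (h : classInner (Op (n := n)) (χ : Sp n → ℂ) ≠ 0) :
    χ = Cfsg.Agent.H892.EP.oneChar (Sp n) ∨ χ = H797.EP.rho hn := by
  by_contra hcon
  push Not at hcon
  obtain ⟨h1, h2⟩ := hcon
  apply h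
  have e : (Op (n := n)) = ((Cfsg.Agent.H892.EP.oneChar (Sp n) : IrrCharacter (Sp n)) : Sp n → ℂ) +
      (H797.EP.rho hn : Sp n → ℂ) := by
    funext g
    rw [Pi.add_apply, H797.EP.rho_apply]
    ring
  rw [e, classInner_add_left, classInner_irr_ne (Cfsg.Agent.H892.EP.oneChar (Sp n)).2 χ.2
    (fun h3 => h1 (Subtype.ext h3.symm)), classInner_irr_ne (H797.EP.rho hn).2 χ.2
    (fun h3 => h2 (Subtype.ext h3.symm)), add_zero]

/-- **the constituents of odd degree of `piL`** -/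
theorem odd_cases (hn : 3 ≤ n) {β : IrrCharacter (Sp n)} (hβ : H797.EP.IsBeta β) (χ : IrrCharacter (Sp n))
    (hπ : classInner (piL n) (χ : Sp n → ℂ) ≠ 0) (ho : Odd (charDegree (χ : Sp n → ℂ))) :
    χ = Cfsg.Agent.H892.EP.oneChar (Sp n) ∨ χ = H797.EP.rho (by omega : 0 < n) ∨ χ = β := by
  rcases odd_constituent hn χ hπ ho with h | h
  · rcases op_cases (by omega) χ h with h1 | h1
    · exact Or.inl h1
    · exact Or.inr (Or.inl h1)
  · exact Or.inr (Or.inr (hβ.uniq χ hπ h))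

end Cfsg.Agent.H352.EP
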