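import Cfsg.Agent.H352.EP.SpRho

/-!
# `beta` has a vector fixed by the stabilizer of a Lagrangian

`stab_beta` : the stabilizer of a Lagrangian has a fixed vector in `beta`; `not_noFix_tv` : so has the group generated by
the transvections `tv w`, `w` in the Lagrangian.
-/

set_option autoImplicit false

open scoped ComplexConjugate
open Matrix Module

namespace Cfsg.Agent.H352.EP

open Cfsg Cfsg.Agent.Characters.Core Cfsg.Agent.H892.EP Cfsg.Agent.H274.EP
open Cfsg.Agent.H797.EP (lagW IsBeta)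

variable {n : ℕ}

theorem fd_of_piL {χ : Sp n → ℂ} (hχ : IsCharacter (Sp n) χ) (h : classInner (piL n) χ ≠ 0) (S : Lag n) :
    fd (MulAction.stabilizer (Sp n) S) χ ≠ 0 := by
  classical
  have := Fintype.ofFinite (MulAction.stabilizer (Sp n) S)
  have hcl : IsClassFunction (Sp n) χ := isCharacter_isClassFunction hχ
  have e : (piL n) = indFun (MulAction.stabilizer (Sp n) S) (fun _ => 1) := Cfsg.Agent.S0190.result (Lag n) S
  rw [e, Cfsg.Agent.Characters.Brauer.classInner_indFun _ _ _ _ hcl, classInner_def] at h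
  intro h0
  apply h
  rw [fd_eq] at h0
  have h1 := (mul_eq_zero.1 h0).resolve_left (inv_ne_zero card_ne_zero_complex)
  have h2 : ∑ g : MulAction.stabilizer (Sp n) S, (1 : ℂ) * conj (χ (g : Sp n)) =
      conj (∑ g : MulAction.stabilizer (Sp n) S, χ (g : Sp n)) := by
    rw [map_sum]
    exact Finset.sum_congr rfl fun g _ => one_mul _
  rw [h2, h1, map_zero, mul_zero]

theorem tv_mem_stab {S : Lag n} {w : Vv n} (hw : w ∈ S.1) : H797.EP.tv w ∈ MulAction.stabilizer (Sp n) S := by
  have h1 : ∀ v ∈ S.1, H797.EP.tv w • v = v := fun v hv => by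
    rw [H797.EP.tv_smul, S.2.1 v hv w hw, zero_smul, add_zero]
  rw [MulAction.mem_stabilizer_iff]
  apply Lag.ext
  symm
  apply Submodule.eq_of_le_of_finrank_eq
  · intro v hv
    rw [← h1 v hv]
    exact (smul_mem_act _ _ _).2 hv
  · exact S.2.2.trans (H797.EP.tv w • S).2.2.symm

/-- for helper902's `val_tv` -/
theorem not_noFix_tv {β : IrrCharacter (Sp n)} (hβ : IsBeta β) (S : Lag n) :
    ¬ NoFix (Subgroup.closure {x : Sp n | ∃ w ∈ S.1, x = Cfsg.Agent.H902.EP.tv w}) (β : Sp n → ℂ) := by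
  have h1 := fd_of_piL (isIrr_isCharacter β.2) (by rw [hβ.piL]; exact one_ne_zero) S
  have h2 : Subgroup.closure {x : Sp n | ∃ w ∈ S.1, x = Cfsg.Agent.H902.EP.tv w} ≤ MulAction.stabilizer (Sp n) S := by
    rw [Subgroup.closure_le]
    rintro _ ⟨w, hw, rfl⟩
    rw [tv_eq]
    exact tv_mem_stab hw
  have h3 := fd_ne_of_le h2 (isIrr_isCharacter β.2) h1
  intro h4
  apply h3
  rw [NoFix] at h4
  rw [fd, h4, mul_zero]

end Cfsg.Agent.H352.EP
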