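import Cfsg.Agent.H352.EP.SpEven
import Cfsg.Agent.H797.EP.Psi

/-!
# The constituents of odd degree of the permutation character on maximal isotropic subspaces

`odd_constituent_aux` : an irreducible constituent of odd degree of `piL n`, `n ≥ 3`, is a constituent of `Op` or `Psi`
(given the orbits of `Om n` on `Lag n`).
-/

set_option autoImplicit false

open scoped ComplexConjugate commutatorElement
open Matrix Module QuadraticMap

namespace Cfsg.Agent.H352.EP

open Cfsg Cfsg.Agent.Characters.Core Cfsg.Agent.H274.EP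
open Cfsg.Agent.LieClassical.OrthCore Cfsg.Agent.LieClassical.OrthForms Cfsg.Agent.LieClassical.OrthTrans
  Cfsg.Agent.LieClassical.OrthFinite
open Cfsg.Agent.H797.EP (q0 dk dkHom dk_sq dk_tv dk_mul' Op Psi tv tv_smul_of_one isCharacter_Psi isCharacter_Op exists_one
  th0_qf ne_zero_of_one dk_class)

variable {n : ℕ}

theorem good_plus (hn : 3 ≤ n) : Good (plusForm n (ZMod 2)) := by
  apply good_of_finite (nondeg_plusForm n (ZMod 2))
  rw [Module.finrank_fintype_fun_eq_card, Fintype.card_sum, Fintype.card_fin]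
  omega

theorem smul_q0_iff {g : Sp n} : g • q0 n = q0 n ↔ back n g ∈ O (plusForm n (ZMod 2)) := by
  rw [back_mem_O]
  constructor
  · intro h
    exact H797.EP.sm_eq_iff.1 (congrArg Subtype.val h)
  · intro h
    exact Subtype.ext (H797.EP.sm_eq_iff.2 h)

/-- the isometry group -/
abbrev St (n : ℕ) : Subgroup (Sp n) := MulAction.stabilizer (Sp n) (q0 n)

theorem St_map : (St n).map (back n) = O (plusForm n (ZMod 2)) := by
  ext x
  constructor
  · rintro ⟨g, hg, rfl⟩
    exact smul_q0_iff.1 hg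
  · intro hx
    refine ⟨fwd x hx, ?_, back_fwd hx⟩
    show fwd x hx • q0 n = q0 n
    rw [smul_q0_iff, back_fwd]
    exact hx

theorem Om_map : (Om n).map (back n) = E (plusForm n (ZMod 2)) := by
  ext x
  constructor
  · rintro ⟨g, hg, rfl⟩
    exact hg
  · intro hx
    refine ⟨fwd x (E_le_O hx), ?_, back_fwd _⟩
    show back n (fwd x (E_le_O hx)) ∈ E (plusForm n (ZMod 2))
    rw [back_fwd]
    exact hx

theorem Om_eq (hn : 3 ≤ n) : Om n = ⁅St n, St n⁆ := by
  apply Subgroup.map_injective back_injective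
  rw [Om_map, Subgroup.map_commutator, St_map, (good_plus hn).commutator_eq_E]

theorem Om_le_St (n : ℕ) : Om n ≤ St n := fun _ hg => smul_q0_iff.2 (E_le_O hg)

theorem dk_Om (hn : 3 ≤ n) {g : Sp n} (hg : g ∈ Om n) : dk g = 1 := by
  have h1 : ⁅St n, St n⁆ ≤ ((dkHom (q0 n)).ker).map (St n).subtype := by
    rw [Subgroup.commutator_le]
    intro a ha b hb
    refine ⟨⁅(⟨a, ha⟩ : St n), (⟨b, hb⟩ : St n)⁆, ?_, rfl⟩
    show dkHom (q0 n) ⁅(⟨a, ha⟩ : St n), (⟨b, hb⟩ : St n)⁆ = 1
    rw [map_commutatorElement]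
    exact commutatorElement_eq_one_iff_mul_comm.2 (mul_comm _ _)
  rw [Om_eq hn] at hg
  obtain ⟨x, hx, rfl⟩ := h1 hg
  exact congrArg Units.val hx

/-- the index is two -/
theorem mul_mem_E (hn : 3 ≤ n) {x y : (Fin n ⊕ Fin n → ZMod 2) ≃ₗ[ZMod 2] (Fin n ⊕ Fin n → ZMod 2)}
    (hx : x ∈ O (plusForm n (ZMod 2))) (hy : y ∈ O (plusForm n (ZMod 2))) (hx' : x ∉ E (plusForm n (ZMod 2)))
    (hy' : y ∉ E (plusForm n (ZMod 2))) : x * y ∈ E (plusForm n (ZMod 2)) := by
  have hnd : (polarBilin (plusForm n (ZMod 2))).Nondegenerate :=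
    ⟨fun x hx => nondeg_plusForm n (ZMod 2) x fun y => by
      have := hx y; rwa [polarBilin_apply_apply] at this,
    fun x hx => nondeg_plusForm n (ZMod 2) x fun y => by
      have := hx y
      rw [polarBilin_apply_apply, polar_comm] at this
      exact this⟩
  have : Nonempty (Fin n ⊕ Fin n) := ⟨Sum.inl ⟨0, by omega⟩⟩
  have hi := ClassicalGeometry.OrthDickson.index_commutator_two (plusForm n (ZMod 2)) (by decide) hnd (Or.inr (by
    rw [Fintype.card_sum, Fintype.card_fin]; omega))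
  have hm := map_Omega (plusForm n (ZMod 2))
  rw [(good_plus hn).commutator_eq_E] at hm
  rw [← isometryHom_range] at hx hy
  obtain ⟨a, rfl⟩ := hx
  obtain ⟨b, rfl⟩ := hy
  have ha : a ∉ Cfsg.Omega (ZMod 2) ⇑(plusForm n (ZMod 2)) := fun h => hx' (hm ▸ ⟨a, h, rfl⟩)
  have hb : b ∉ Cfsg.Omega (ZMod 2) ⇑(plusForm n (ZMod 2)) := fun h => hy' (hm ▸ ⟨b, h, rfl⟩)
  rw [← map_mul, ← hm]
  refine ⟨a * b, ?_, rfl⟩
  show a * b ∈ commutator _
  rw [Subgroup.mul_mem_iff_of_index_two hi]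
  exact ⟨fun h => absurd h ha, fun h => absurd h hb⟩

theorem mem_Om_iff (hn : 3 ≤ n) {g : Sp n} : g ∈ Om n ↔ g ∈ St n ∧ dk g = 1 := by
  constructor
  · intro h
    exact ⟨Om_le_St n h, dk_Om hn h⟩
  · rintro ⟨h1, h2⟩
    by_contra h3
    obtain ⟨v, hv⟩ := exists_one (n := n) _ th0_qf (by omega)
    have hr : tv v ∈ St n := tv_smul_of_one (q0 n) hv
    have hr1 : dk (tv v) = -1 := dk_tv (ne_zero_of_one th0_qf hv)
    have hr2 : tv v ∉ Om n := by
      intro h4
      have h5 := dk_Om hn h4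
      rw [hr1] at h5
      norm_num at h5
    have h4 : g * tv v ∈ Om n := by
      rw [mem_Om, map_mul]
      exact mul_mem_E hn (smul_q0_iff.1 h1) (smul_q0_iff.1 hr) h3 hr2
    have h5 := dk_Om hn h4
    rw [dk_mul' (q0 n) h1 hr, h2, hr1] at h5
    norm_num at h5

/-- **fixed vectors of `Om n`** -/
theorem op_or_psi (hn : 3 ≤ n) {χ : Sp n → ℂ} (hχ : IsCharacter (Sp n) χ)
    (h : fd (⊤ : Subgroup (Om n)) (χ ∘ (Om n).subtype) ≠ 0) :
    classInner (Op (n := n)) χ ≠ 0 ∨ classInner (Psi (n := n)) χ ≠ 0 := by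
  classical
  by_contra hcon
  push Not at hcon
  obtain ⟨h1, h2⟩ := hcon
  have : Fintype (Om n) := Fintype.ofFinite _
  have : Fintype (St n) := Fintype.ofFinite _
  have hcl : IsClassFunction (Sp n) χ := isCharacter_isClassFunction hχ
  have e1 : (Op (n := n)) = indFun (St n) (fun _ => 1) := Cfsg.Agent.S0190.result (H797.EP.QP n) (q0 n)
  have e2 : (Psi (n := n)) = indFun (St n) (fun h => dk (h : Sp n)) := by
    have h3 := Cfsg.Agent.Characters.Brauer.indFun_mul (St n) (fun _ => 1) (dk (n := n)) dk_class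
    have h4 : (Psi (n := n)) = Op * dk := by
      funext g
      rw [Pi.mul_apply, Psi, mul_comm]
    rw [h4, e1, h3]
    congr 1
    funext h
    rw [one_mul]
  rw [e1, Cfsg.Agent.Characters.Brauer.classInner_indFun _ _ _ _ hcl, classInner_def] at h1
  rw [e2, Cfsg.Agent.Characters.Brauer.classInner_indFun _ _ _ _ hcl, classInner_def] at h2
  have hc : (Nat.card (St n) : ℂ)⁻¹ ≠ 0 := inv_ne_zero card_ne_zero_complex
  have h1' := (mul_eq_zero.1 h1).resolve_left hc
  simp only [one_mul] at h1'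
  have h2' := (mul_eq_zero.1 h2).resolve_left hc
  have h3 : ∑ x : St n, (if dk (x : Sp n) = 1 then conj (χ x) else 0) = 0 := by
    have h4 : ∀ x : St n, (if dk (x : Sp n) = 1 then conj (χ x) else 0) =
        (1 / 2 : ℂ) * conj (χ x) + (1 / 2 : ℂ) * (dk (x : Sp n) * conj (χ x)) := by
      intro x
      rcases dk_sq (x : Sp n) with h5 | h5
      · rw [h5, if_pos rfl]; ring
      · rw [h5, if_neg (by norm_num)]; ring
    rw [Finset.sum_congr rfl fun x _ => h4 x, Finset.sum_add_distrib, ← Finset.mul_sum, ← Finset.mul_sum, h1', h2',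
      mul_zero, add_zero]
  apply h
  rw [fd_top_eq, classInner_def]
  have h4 : ∑ y : Om n, (χ ∘ (Om n).subtype) y * conj ((1 : Om n → ℂ) y) = ∑ y : Om n, χ (y : Sp n) :=
    Finset.sum_congr rfl fun y _ => by simp
  have h5 : ∑ y : Om n, χ (y : Sp n) = 0 := by
    rw [← Finset.sum_filter] at h3
    have h6 : ∑ y : Om n, conj (χ (y : Sp n)) = ∑ x ∈ Finset.univ.filter (fun x : St n => dk (x : Sp n) = 1), conj (χ x) := by
      refine Finset.sum_bij (fun y _ => ⟨y, Om_le_St n y.2⟩) ?_ ?_ ?_ ?_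
      · intro y _
        rw [Finset.mem_filter]
        exact ⟨Finset.mem_univ _, dk_Om hn y.2⟩
      · intro a _ b _ hab
        exact Subtype.ext (congrArg (fun z : St n => (z : Sp n)) hab)
      · intro x hx
        rw [Finset.mem_filter] at hx
        exact ⟨⟨x, (mem_Om_iff hn).2 ⟨x.2, hx.2⟩⟩, Finset.mem_univ _, rfl⟩
      · intro y _
        rfl
    rw [← map_eq_zero (starRingEnd ℂ), map_sum, h6, h3]
  rw [h4, h5, mul_zero]

/-- the main step -/
theorem odd_constituent_aux (hn : 3 ≤ n)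
    (H : ∀ x : Lag n, ∃ y : Om n, ∀ i j : Fin n, i < j → ∀ s, rel (i, true) (j, s) • (y • x) = y • x)
    (χ : IrrCharacter (Sp n)) (hπ : classInner (piL n) (χ : Sp n → ℂ) ≠ 0)
    (ho : Odd (charDegree (χ : Sp n → ℂ))) :
    classInner (Op (n := n)) (χ : Sp n → ℂ) ≠ 0 ∨ classInner (Psi (n := n)) (χ : Sp n → ℂ) ≠ 0 := by
  classical
  have : Fintype (Om n) := Fintype.ofFinite _
  apply op_or_psi hn (isIrr_isCharacter χ.2)
  refine one_of_odd (isCharacter_comp (Om n).subtype (isIrr_isCharacter χ.2)) (d := charDegree (χ : Sp n → ℂ)) ?_ ho ?_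
  · rw [Function.comp_apply, map_one, Cfsg.Agent.Blocks.Basic.irr_one_eq_charDegree χ.2]
  · intro η hη1 hη
    obtain ⟨x, hx⟩ := exists_stab (Ω := Lag n) (Om n) χ.2 hπ η.2 hη
    obtain ⟨y, hy⟩ := H x
    rw [← fd_stab_smul (Om n) (isIrr_isClassFunction η.2) y x] at hx
    exact even_Om hn (fun i j hij s => MulAction.mem_stabilizer_iff.2 (hy i j hij s)) η hη1 hx

end Cfsg.Agent.H352.EP
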