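import Cfsg.Agent.H352.EP.SpFin
import Cfsg.Agent.H902.EP.SpEven

/-!
# The multiplicities of `1`, `rho`, `beta`; the even type

* `classInner_piL_op` : `⟨piL, Op⟩ = 2`, `classInner_piL_rho` : `⟨piL, rho⟩ = 1`, `rho_ne_one`, `rho_ne_beta`;
* `noFix_beta` : `beta` has no vector fixed by the group generated by `tv u`, `tv v`, `form u v = 1`;
* `evAt_even` : the elements without invariant Lagrangian which fix a hyperbolic plane and a form of plus type.
-/

set_option autoImplicit false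

open scoped ComplexConjugate
open Matrix Module

namespace Cfsg.Agent.H352.EP

open Cfsg Cfsg.Agent.Characters.Core Cfsg.Agent.H892.EP
open Cfsg.Agent.H797.EP (q0 dk dk_sq dk_tv dk_mul' Op Psi tv tv_smul tv_smul_of_one th0_qf ne_zero_of_one lagW mem_lagW
  lag_mem_iff z2 z2add vadd rho rho_apply IsBeta QP IsQF psi_sum_zero classInner_piL_one exists_one isCharacter_Op
  isCharacter_piL isCharacter_Psi beta_coset)

variable {n : ℕ}

local notation "θ₀" => Cfsg.Agent.H797.EP.th0

theorem op_ind : (Op (n := n)) = indFun (St n) (fun _ => 1) := Cfsg.Agent.S0190.result (H797.EP.QP n) (q0 n)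

theorem classInner_op [Fintype (St n)] {χ : Sp n → ℂ} (hχ : IsClassFunction (Sp n) χ) :
    classInner (Op (n := n)) χ = (Nat.card (St n) : ℂ)⁻¹ * ∑ g : St n, conj (χ (g : Sp n)) := by
  rw [op_ind, Cfsg.Agent.Characters.Brauer.classInner_indFun _ _ _ _ hχ, classInner_def]
  congr 1
  exact Finset.sum_congr rfl fun g _ => one_mul _

theorem classInner_op_one : classInner (Op (n := n)) 1 = 1 := by
  have := Fintype.ofFinite (St n)
  rw [classInner_op (fun _ _ => rfl)]
  simp only [Pi.one_apply, map_one, Finset.sum_const, Finset.card_univ, nsmul_eq_mul, mul_one,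
    ← Nat.card_eq_fintype_card]
  exact inv_mul_cancel₀ card_ne_zero_complex

/-- a non-singular Lagrangian -/
theorem exists_nonsing (hn : 0 < n) : ∃ S : Lag n, ¬ ∀ v ∈ S.1, θ₀ v = 0 := by
  obtain ⟨w, hw⟩ := exists_one (n := n) θ₀ th0_qf hn
  have hw0 := ne_zero_of_one (n := n) th0_qf hw
  have he : (bv (⟨0, hn⟩, true) : Vv n) ≠ 0 := by
    intro h
    have h1 := congrFun (congrArg Prod.fst h) ⟨0, hn⟩
    simp [bv] at h1
  obtain ⟨g, hg⟩ := Cfsg.Agent.H902.EP.exists_smul_eq he hw0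
  refine ⟨g • lagW n, fun h => ?_⟩
  have h1 : g • (bv (⟨0, hn⟩, true) : Vv n) ∈ (g • lagW n).1 := by
    refine (smul_mem_act _ _ _).2 ?_
    rw [mem_lagW]
    simp [bv]
  rw [hg] at h1
  rw [h w h1] at hw
  exact zero_ne_one hw

/-- the two orbits -/
theorem card_orbits (hn : 0 < n) : Nat.card (MulAction.orbitRel.Quotient (St n) (Lag n)) = 2 := by
  classical
  have hinv : ∀ (S T : Lag n), (MulAction.orbitRel (St n) (Lag n)) S T →
      ((∀ v ∈ S.1, θ₀ v = 0) = (∀ v ∈ T.1, θ₀ v = 0)) := by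
    rintro S T ⟨g, rfl⟩
    apply propext
    constructor
    · intro h v hv
      rw [← th_St g.2]
      exact h _ ((smul_mem_act (g : Sp n) T.1 v).2 hv)
    · intro h v hv
      have h2 : (g : Sp n)⁻¹ • v ∈ T.1 := (mem_act _ _ _).1 hv
      rw [← th_St ((St n).inv_mem g.2)]
      exact h _ h2
  let f : MulAction.orbitRel.Quotient (St n) (Lag n) → Prop :=
    Quotient.lift (fun S : Lag n => ∀ v ∈ S.1, θ₀ v = 0) hinv
  have hf : Function.Bijective f := by
    constructor
    · intro a b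
      induction a using Quotient.inductionOn with
      | _ S =>
      induction b using Quotient.inductionOn with
      | _ T =>
      intro h
      have h1 : (∀ v ∈ T.1, θ₀ v = 0) ↔ (∀ v ∈ S.1, θ₀ v = 0) := by
        have h2 : (∀ v ∈ S.1, θ₀ v = 0) = (∀ v ∈ T.1, θ₀ v = 0) := h
        rw [h2]
      obtain ⟨g, hg, hgT⟩ := lag_trans_th _ T S rfl h1
      exact Quotient.sound ⟨⟨g, hg⟩, hgT⟩
    · intro P
      by_cases hP : P
      · refine ⟨Quotient.mk _ (lagW n), ?_⟩
        have h1 : ∀ v ∈ (lagW n).1, θ₀ v = 0 := H797.EP.th0_lagW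
        show (∀ v ∈ (lagW n).1, θ₀ v = 0) = P
        exact propext ⟨fun _ => hP, fun _ => h1⟩
      · obtain ⟨S, hS⟩ := exists_nonsing hn
        refine ⟨Quotient.mk _ S, ?_⟩
        show (∀ v ∈ S.1, θ₀ v = 0) = P
        exact propext ⟨fun h => absurd h hS, fun h => absurd h hP⟩
  rw [Nat.card_eq_of_bijective f hf]
  rw [Nat.card_eq_fintype_card]
  exact Fintype.card_prop

theorem classInner_op_piL (hn : 0 < n) : classInner (Op (n := n)) (piL n) = 2 := by
  classical
  have := Fintype.ofFinite (St n)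
  have := Fintype.ofFinite (MulAction.orbitRel.Quotient (St n) (Lag n))
  have : ∀ a : St n, Fintype (MulAction.fixedBy (Lag n) a) := fun a => Fintype.ofFinite _
  rw [classInner_op (isCharacter_isClassFunction isCharacter_piL)]
  have h1 := MulAction.sum_card_fixedBy_eq_card_orbits_mul_card_group (St n) (Lag n)
  have h2 : ∑ g : St n, conj (piL n (g : Sp n)) = ((∑ a : St n, Fintype.card (MulAction.fixedBy (Lag n) a) : ℕ) : ℂ) := by
    push_cast
    refine Finset.sum_congr rfl fun g _ => ?_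
    unfold piL
    rw [Complex.conj_natCast, ← Nat.card_eq_fintype_card]
    rfl
  rw [h2, h1, ← Nat.card_eq_fintype_card, ← Nat.card_eq_fintype_card]
  have h3 : Nat.card (Quotient (MulAction.orbitRel (St n) (Lag n))) = 2 := card_orbits hn
  rw [h3]
  push_cast
  have hc : (Nat.card (St n) : ℂ) ≠ 0 := card_ne_zero_complex
  field_simp

theorem classInner_piL_op (hn : 0 < n) : classInner (piL n) (Op (n := n)) = 2 := by
  rw [← classInner_conj_symm, classInner_op_piL hn]
  exact Complex.conj_ofNat 2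

theorem op_eq (hn : 0 < n) : (Op (n := n)) = (1 : Sp n → ℂ) + (rho hn : Sp n → ℂ) := by
  funext g
  rw [Pi.add_apply, rho_apply, Pi.one_apply]
  ring

theorem rho_ne_one (hn : 0 < n) : rho hn ≠ oneChar (Sp n) := by
  intro h
  have h1 := classInner_op_one (n := n)
  rw [op_eq hn, classInner_add_left, h] at h1
  have h2 : classInner (1 : Sp n → ℂ) 1 = 1 := classInner_irr_self isIrr_one
  have h3 : classInner ((oneChar (Sp n) : IrrCharacter (Sp n)) : Sp n → ℂ) (1 : Sp n → ℂ) = 1 := h2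
  rw [h2, h3] at h1
  norm_num at h1

theorem classInner_piL_rho (hn : 0 < n) : classInner (piL n) (rho hn : Sp n → ℂ) = 1 := by
  have h1 := classInner_piL_op hn
  rw [op_eq hn, classInner_add_right, classInner_piL_one] at h1
  linear_combination h1

/-- a vector with `θ₀ v = 1` orthogonal to a given vector -/
theorem exists_perp (hn : 2 ≤ n) (w : Vv n) : ∃ v, θ₀ v = 1 ∧ form w v = 0 := by
  have hq : ∀ i : Fin n, θ₀ (bv (i, true) + bv (i, false) : Vv n) = 1 := fun i => by
    simp [H797.EP.th0, bv]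
  have hw : ∀ i : Fin n, form w (bv (i, true) + bv (i, false)) = w.2 i + w.1 i := fun i => by
    rw [form_add_right, form_e, form_f]
  set i0 : Fin n := ⟨0, by omega⟩ with hi0
  set i1 : Fin n := ⟨1, by omega⟩ with hi1
  have hne : i0 ≠ i1 := by simp [hi0, hi1]
  rcases z2 (w.2 i0 + w.1 i0) with h0 | h0
  · exact ⟨_, hq i0, by rw [hw, h0]⟩
  · rcases z2 (w.2 i1 + w.1 i1) with h1 | h1
    · exact ⟨_, hq i1, by rw [hw, h1]⟩
    · obtain ⟨s, hs⟩ : ∃ s : Bool, form w (bv (i1, s)) = 1 := by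
        rcases z2 (w.2 i1) with h2 | h2
        · rw [h2, zero_add] at h1
          exact ⟨false, by rw [form_f, h1]⟩
        · exact ⟨true, by rw [form_e, h2]⟩
      refine ⟨(bv (i0, true) + bv (i0, false)) + bv (i1, s), ?_, ?_⟩
      · rw [th0_qf, hq, form_add_left, form_bv, form_bv, if_neg (fun h => hne h.1), if_neg (fun h => hne h.1)]
        have : θ₀ (bv (i1, s) : Vv n) = 0 := by
          cases s <;> simp [H797.EP.th0, bv]
        rw [this]
        rfl
      · rw [form_add_right, hw, h0, hs]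
        rfl

theorem classInner_psi_op (hn : 2 ≤ n) : classInner (Op (n := n)) (Psi (n := n)) = 0 := by
  have := Fintype.ofFinite (St n)
  rw [classInner_op (isCharacter_isClassFunction isCharacter_Psi)]
  have h1 : ∑ g : St n, conj (Psi (g : Sp n)) = ∑ g : St n, Psi ((St n).subtype g) :=
    Finset.sum_congr rfl fun g _ => H797.EP.psi_real _
  rw [h1, psi_sum_zero, mul_zero]
  intro θ
  obtain ⟨w, hw⟩ := H797.EP.exists_shift (th0_qf (n := n)) θ.2.1
  obtain ⟨v, hv, hwv⟩ := exists_perp hn w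
  refine ⟨⟨tv v, tv_smul_of_one (q0 n) hv⟩, tv_smul_of_one θ (by rw [hw, hv, hwv, add_zero]), ?_⟩
  exact dk_tv (ne_zero_of_one (n := n) th0_qf hv)

theorem rho_ne_beta (hn : 2 ≤ n) {β : IrrCharacter (Sp n)} (hβ : IsBeta β) : rho (by omega : 0 < n) ≠ β := by
  intro h
  have h1 := classInner_psi_op hn
  rw [op_eq (by omega : 0 < n), classInner_add_left, h] at h1
  have h2 : classInner (1 : Sp n → ℂ) (Psi (n := n)) = 0 := by
    rw [← classInner_conj_symm, H797.EP.classInner_psi_one (by omega), map_zero]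
  have h3 : classInner (β : Sp n → ℂ) (Psi (n := n)) = 1 := by
    rw [← classInner_conj_symm, hβ.psi, map_one]
  rw [h2, h3] at h1
  norm_num at h1

theorem tv_eq (u : Vv n) : Cfsg.Agent.H902.EP.tv u = tv u := by
  apply sp_ext
  intro v
  rw [tv_smul]
  rfl

/-- `beta` has no vector fixed by `Sp_2(2)` -/
theorem noFix_beta {β : IrrCharacter (Sp n)} (hβ : IsBeta β) {u v : Vv n} (huv : form u v = 1) :
    NoFix (Subgroup.closure {Cfsg.Agent.H902.EP.tv u, Cfsg.Agent.H902.EP.tv v}) (β : Sp n → ℂ) := by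
  set D : Subgroup (Sp n) := Subgroup.closure {Cfsg.Agent.H902.EP.tv u, Cfsg.Agent.H902.EP.tv v} with hD
  have := Fintype.ofFinite D
  have hu : tv u ∈ D := by
    rw [← tv_eq]
    exact Subgroup.subset_closure (Or.inl rfl)
  have hv : tv v ∈ D := by
    rw [← tv_eq]
    exact Subgroup.subset_closure (Or.inr rfl)
  have huv' : tv (u + v) ∈ D := by
    have h1 := Cfsg.Agent.H902.EP.tv_aba huv
    rw [tv_eq, tv_eq, tv_eq] at h1
    rw [← h1]
    exact D.mul_mem (D.mul_mem hu hv) hu
  rw [NoFix, finsum_eq_sum_of_fintype]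
  have h1 := beta_coset hβ D.subtype (fun θ => ?_) 1
  · simpa using h1
  · obtain ⟨w, hw, hw1⟩ : ∃ w, tv w ∈ D ∧ θ.1 w = 1 := by
      rcases z2 (θ.1 u) with h1 | h1
      · rcases z2 (θ.1 v) with h2 | h2
        · exact ⟨u + v, huv', by rw [θ.2.1, h1, h2, huv, add_zero, zero_add]⟩
        · exact ⟨v, hv, h2⟩
      · exact ⟨u, hu, h1⟩
    exact ⟨⟨tv w, hw⟩, tv_smul_of_one θ hw1, dk_tv (ne_zero_of_one θ.2.1 hw1)⟩

/-- **the even type, `p ≥ 5`** -/
theorem evAt_even {p : ℕ} [Fact p.Prime] (hn : 3 ≤ n) (hp2 : p ≠ 2) (hp3 : p ≠ 3) {x : Sp n}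
    (hx : ∃ k : ℕ, orderOf x = p ^ k) (hL : ∀ S : Lag n, x • S ≠ S) {u v : Vv n} (huv : form u v = 1)
    (hxu : x • u = u) (hxv : x • v = v) {θ : QP n} (hθ : x • θ = θ) : EvAt p (Sp n) := by
  intro M hM
  obtain ⟨β, hβ⟩ := H797.EP.exists_beta (n := n)
  have hn0 : 0 < n := by omega
  refine Cfsg.Agent.H902.EP.even_ge_five hM hp2 hp3 hx hL huv hxu hxv (rho hn0) β (rho_ne_one hn0)
    (fun h => hβ.ne_one hn0 (by rw [h]; rfl)) (rho_ne_beta (by omega) hβ)
    (fun g => (Nat.card (MulAction.fixedBy (QP n) g) : ℝ)) (fun g => ?_) (fun g => Nat.cast_nonneg _) ?_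
    (noFix_beta hβ huv) classInner_piL_one (classInner_piL_rho hn0) (fun χ h1 h2 => odd_cases hn hβ χ h1 ?_)
  · rw [rho_apply]
    unfold Op
    push_cast
    ring
  · have : Nonempty (MulAction.fixedBy (QP n) x) := ⟨⟨θ, hθ⟩⟩
    exact_mod_cast Nat.card_pos
  · rw [← Nat.not_even_iff_odd, even_iff_two_dvd]
    exact h2

end Cfsg.Agent.H352.EP
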